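/-
Primitive groups containing an element of small support; passing from an action to its image in
the symmetric group.
-/
import Mathlib.GroupTheory.GroupAction.Jordan
import Mathlib.GroupTheory.GroupAction.MultiplePrimitivity

set_option autoImplicit false

namespace Cfsg.Agent.H78

open MulAction Equiv Equiv.Perm

variable {G Ω : Type*} [Group G] [MulAction G Ω]

/-- the identity of `Ω`, equivariant for `G → range` -/
def toRangeHom (G Ω : Type*) [Group G] [MulAction G Ω] :
    Ω →ₑ[(toPermHom G Ω).rangeRestrict] Ω where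
  toFun := id
  map_smul' _ _ := rfl

theorem preprimitive_range (h : IsPreprimitive G Ω) : IsPreprimitive (toPermHom G Ω).range Ω :=
  IsPreprimitive.of_surjective (f := toRangeHom G Ω) Function.surjective_id

theorem multTrans_range {k : ℕ} (h : IsMultiplyPretransitive G Ω k) :
    IsMultiplyPretransitive (toPermHom G Ω).range Ω k :=
  ⟨fun x y => by
    obtain ⟨g, hg⟩ := h.exists_smul_eq x y
    exact ⟨(toPermHom G Ω).rangeRestrict g, by rw [← hg]; ext; rfl⟩⟩

theorem multTrans_of_range {k : ℕ} (h : IsMultiplyPretransitive (toPermHom G Ω).range Ω k) :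
    IsMultiplyPretransitive G Ω k :=
  ⟨fun x y => by
    obtain ⟨⟨_, g, rfl⟩, hg⟩ := h.exists_smul_eq x y
    exact ⟨g, by rw [← hg]; ext; rfl⟩⟩

/-- a primitive group with a non-identity element moving at most three points -/
theorem alt_le_of_support_le_three [Fintype Ω] [DecidableEq Ω] {H : Subgroup (Perm Ω)}
    (hH : IsPreprimitive H Ω) {g : Perm Ω} (hg : g ∈ H) (h1 : g ≠ 1) (h3 : g.support.card ≤ 3) :
    alternatingGroup Ω ≤ H := by
  have h2 := two_le_card_support_of_ne_one h1
  rcases (by omega : g.support.card = 2 ∨ g.support.card = 3) with h | h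
  · rw [subgroup_eq_top_of_isPreprimitive_of_isSwap_mem hH g (card_support_eq_two.1 h) hg]
    exact le_top
  · exact alternatingGroup_le_of_isPreprimitive_of_isThreeCycle_mem hH
      (card_support_eq_three_iff.1 h) hg

/-- the commutator of two elements whose supports meet inside `C` -/
theorem comm_smul_eq {g h : G} {C : Set Ω} (hC : ∀ x, g • x ≠ x → h • x ≠ x → x ∈ C) {x : Ω}
    (h1 : x ∉ C) (h2 : g⁻¹ • x ∉ C) (h3 : h⁻¹ • x ∉ C) : (g * h * g⁻¹ * h⁻¹) • x = x := by
  simp only [mul_smul]
  by_cases hx : g • x = x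
  · have hy : g • h⁻¹ • x = h⁻¹ • x := by
      by_contra hy
      by_cases e : h • h⁻¹ • x = h⁻¹ • x
      · rw [smul_inv_smul] at e
        exact hy (by rw [← e, hx])
      · exact h3 (hC _ hy e)
    rw [inv_smul_eq_iff.2 hy.symm, smul_inv_smul, hx]
  · have e1 : h • x = x := by_contra fun e => h1 (hC x hx e)
    have e2 : h • g⁻¹ • x = g⁻¹ • x := by
      by_contra e
      refine h2 (hC _ (fun e' => hx ?_) e)
      rw [smul_inv_smul] at e'
      conv_lhs => rw [e']
      rw [smul_inv_smul]
    rw [inv_smul_eq_iff.2 e1.symm, e2, smul_inv_smul]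

/-- two elements of a primitive group whose supports meet in exactly one point -/
theorem alt_le_of_support_inter [Fintype Ω] [DecidableEq Ω] (hG : IsPreprimitive G Ω) {g h : G}
    {a : Ω} (hg : g • a ≠ a) (hh : h • a ≠ a) (hC : ∀ x, g • x ≠ x → h • x ≠ x → x = a) :
    alternatingGroup Ω ≤ (toPermHom G Ω).range := by
  refine alt_le_of_support_le_three (preprimitive_range hG) (g := toPermHom G Ω (g * h * g⁻¹ * h⁻¹))
    ⟨_, rfl⟩ (fun e => hh ?_) ?_
  · have e1 : (g * h * g⁻¹ * h⁻¹) • h • a = h • a := congrFun (congrArg DFunLike.coe e) (h • a)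
    have e2 : h • g⁻¹ • a = g⁻¹ • a := by
      by_contra e'
      have : g⁻¹ • a ≠ a := fun e'' => hg (inv_smul_eq_iff.1 e'').symm
      exact this (hC _ (by rw [smul_inv_smul]; exact this.symm) e')
    simp only [mul_smul, inv_smul_smul, e2, smul_inv_smul] at e1
    exact e1.symm
  · refine le_trans (Finset.card_le_card (t := {a, g • a, h • a}) fun x hx => ?_)
      Finset.card_le_three
    by_contra hc
    simp only [Finset.mem_insert, Finset.mem_singleton, not_or] at hc
    exact mem_support.1 hx (comm_smul_eq (C := {a}) hC hc.1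
      (fun e => hc.2.1 (inv_smul_eq_iff.1 e)) fun e => hc.2.2 (inv_smul_eq_iff.1 e))

end Cfsg.Agent.H78
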