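/-
The Thompson-Wielandt theorem for two conjugate core-free maximal subgroups.
-/
import Cfsg.Agent.H70.Wielandt
import Cfsg.Agent.H59.Fit
import Cfsg.Agent.H44.Layer

set_option autoImplicit false
set_option linter.unusedSectionVars false

namespace Cfsg.Agent.H78

open Cfsg Subgroup Cfsg.Agent.H70
open Cfsg.Agent.H44 hiding pCoreOf_le pCoreOf_isPGroup le_pCoreOf

universe u
variable {G : Type u} [Group G]

/-- the core in `M` of `M ⊓ Y` -/
def core (M Y : Subgroup G) : Subgroup G := (Y.subgroupOf M).normalCore.map M.subtype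

theorem mem_core {M Y : Subgroup G} {x : G} :
    x ∈ core M Y ↔ x ∈ M ∧ ∀ h ∈ M, h * x * h⁻¹ ∈ Y :=
  ⟨by rintro ⟨x, hx, rfl⟩; exact ⟨x.2, fun h hh => hx ⟨h, hh⟩⟩,
    fun ⟨hx, h⟩ => ⟨⟨x, hx⟩, fun b => h b b.2, rfl⟩⟩

theorem core_le_left (M Y : Subgroup G) : core M Y ≤ M := map_subtype_le _

theorem core_le_right (M Y : Subgroup G) : core M Y ≤ Y := fun x hx => by
  simpa using (mem_core.1 hx).2 1 M.one_mem

theorem le_norm_core (M Y : Subgroup G) : M ≤ normalizer (core M Y : Set G) :=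
  le_norm_map_subtype _

theorem le_core {M Y X : Subgroup G} (h1 : X ≤ M) (h2 : ∀ h ∈ M, X ≤ cj h Y) : X ≤ core M Y :=
  fun x hx => mem_core.2 ⟨h1 hx, fun h hh => by simpa using mem_cj.1 (h2 h⁻¹ (M.inv_mem hh) hx)⟩

theorem le_core_of_norm {M Y X : Subgroup G} (h1 : X ≤ M) (h2 : X ≤ Y)
    (h3 : M ≤ normalizer (X : Set G)) : X ≤ core M Y :=
  fun x hx => mem_core.2 ⟨h1 hx, fun _ hh => h2 (conj_mem_of_le_norm h3 hh hx)⟩

/-- every nontrivial normal subgroup of `M` has normaliser `M` -/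
def PrimSub (M : Subgroup G) : Prop :=
  ∀ A : Subgroup G, A ≠ ⊥ → A ≤ M → M ≤ normalizer (A : Set G) → normalizer (A : Set G) = M

theorem primSub_of_coatom {M : Subgroup G} (hM : IsCoatom M) (hc : M.normalCore = ⊥) :
    PrimSub M := fun A hA hAM hn => by
  refine ((hM.le_iff.1 hn).resolve_left fun e => hA ?_)
  have := normal_of_top_le_norm e.ge
  exact le_bot_iff.1 (hc ▸ normal_le_normalCore.2 hAM)

theorem PrimSub.conj {M : Subgroup G} (h : PrimSub M) (g : G) : PrimSub (cj g M) := by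
  intro A hA hAM hn
  have := h (cj g⁻¹ A) (fun e => hA (cj_eq_bot_iff.1 e)) (le_cj_iff.1 hAM)
    (by rw [← cj_normalizer]; exact cj_le_iff_le_cj_inv.1 hn)
  rw [← this, ← cj_normalizer, cj_cj_inv]

theorem PrimSub.eq_bot {M N A : Subgroup G} (hM : PrimSub M) (hN : PrimSub N) (hne : M ≠ N)
    (h1 : A ≤ M) (h2 : A ≤ N) (h3 : M ≤ normalizer (A : Set G)) (h4 : N ≤ normalizer (A : Set G)) :
    A = ⊥ := by_contra fun h => hne ((hM A h h1 h3).symm.trans (hN A h h2 h4))

variable [Finite G]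

/-- `O_p(M ⊓ N)` is not normal in `N`, for distinct conjugates `M`, `N` -/
theorem PrimSub.pCore_inf_eq_bot {M N : Subgroup G} (hN : PrimSub N) {g : G} (hg : M = cj g N)
    (hne : M ≠ N) {p : ℕ} [Fact p.Prime]
    (h : N ≤ normalizer (pCoreOf p (M ⊓ N) : Set G)) : pCoreOf p (M ⊓ N) = ⊥ := by
  set O := pCoreOf p (M ⊓ N) with hO
  by_contra h0
  have hON : O ≤ N := (pCoreOf_le _).trans inf_le_right
  have hOM : O ≤ M := (pCoreOf_le _).trans inf_le_left
  have h1 : M ≤ normalizer (cj g O : Set G) := by rw [← cj_normalizer, hg]; exact cj_mono g h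
  have h2 : cj g O ≤ M := hg ▸ cj_mono g hON
  have hP : IsPGroup p (O ⊔ cj g O : Subgroup G) := isPGroup_sup_of_norm (pCoreOf_isPGroup _)
    (isPGroup_cj g (pCoreOf_isPGroup _)) (hOM.trans h1)
  have h3 : O = O ⊔ cj g O := by
    refine eq_of_inf_norm_le hP le_sup_left ?_
    rw [hN O h0 hON h]
    exact le_pCoreOf (inf_le_inf_right _ (sup_le hOM h2)) (norm_inf (norm_sup (le_norm_pCoreOf _)
      (inf_le_left.trans h1)) (norm_of_le inf_le_right)) (hP.to_le inf_le_left)
  have h4 : g ∈ N := hN O h0 hON h ▸ mem_normalizer_of_cj_le (le_sup_right.trans h3.ge)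
  exact hne (hg.trans (cj_eq_self_of_mem h4))

theorem Eof_le_norm_of_sn {X U : Subgroup G} (h : SN X U) : Eof X ≤ normalizer (U : Set G) :=
  Eof_le_iff.2 fun _ hK => (hK.le_or_commutator_eq_bot h).elim norm_of_le
    le_normalizer_of_commutator_eq_bot

section
variable {M N A : Subgroup G} (hM : PrimSub M) (hA : A ≠ ⊥) (hAn : M ≤ normalizer (A : Set G))
  (hAN : A ≤ core N M)
include hM hA hAn hAN

theorem tw_sn {h : G} (hh : h ∈ N) : SN (core N M) (cj h A) := by
  have e : cj h (core N M) = core N M := cj_eq_self (le_norm_core N M hh)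
  refine SN.of_le_normalizer (e ▸ cj_mono h hAN) ?_
  rw [← cj_normalizer, ← e]
  exact cj_mono h ((core_le_right N M).trans hAn)

theorem tw_Eof : Eof (M ⊓ N) = Eof N := by
  have s1 : SN (M ⊓ N) (core N M) := SN.of_le_normalizer
    (le_inf (core_le_right N M) (core_le_left N M)) (inf_le_right.trans (le_norm_core N M))
  have s2 : SN N (core N M) := SN.of_le_normalizer (core_le_left N M) (le_norm_core N M)
  have hAM := hAN.trans (core_le_right N M)
  refine le_antisymm ?_ (Eof_le_Eof_of_le inf_le_right (le_inf ?_ (Eof_le N)))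
  · rw [← Eof_eq_of_sn_of_le s1 (le_core ((Eof_le _).trans inf_le_right) fun h hh => ?_)]
    · exact Eof_le_Eof_of_sn s2
    · have := Eof_le_norm_of_sn (s1.trans (tw_sn hM hA hAn hAN hh))
      rwa [← cj_normalizer, hM A hA hAM hAn] at this
  · rw [← hM A hA hAM hAn]
    simpa using Eof_le_norm_of_sn (s2.trans (tw_sn hM hA hAn hAN N.one_mem))

theorem tw_pCore {g : G} (hg : N = cj g M) (hne : M ≠ N) {p : ℕ} [Fact p.Prime]
    (hp : ¬ IsPGroup p A) : pCoreOf p (M ⊓ N) = ⊥ ∧ pCoreOf p N = ⊥ := by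
  have s1 : SN (M ⊓ N) (core N M) := SN.of_le_normalizer
    (le_inf (core_le_right N M) (core_le_left N M)) (inf_le_right.trans (le_norm_core N M))
  have s2 : SN N (core N M) := SN.of_le_normalizer (core_le_left N M) (le_norm_core N M)
  have hAM := hAN.trans (core_le_right N M)
  have hR : normalizer (pResidualOf p A : Set G) = M :=
    hM _ (fun e => hp (pRes_eq_bot_iff.1 e)) ((pRes_le A).trans hAM) (norm_pRes hAn)
  have h1 : pCoreOf p (M ⊓ N) ≤ core N M := by
    refine le_core ((pCoreOf_le _).trans inf_le_right) fun h hh => ?_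
    have := (subn_of_sn (s1.trans (tw_sn hM hA hAn hAN hh))).pCoreOf_le_norm_pRes (p := p)
    rwa [← cj_pRes, ← cj_normalizer, hR] at this
  have h2 : pCoreOf p (M ⊓ N) = ⊥ := by
    refine (hg ▸ hM.conj g).pCore_inf_eq_bot (g := g⁻¹) (by rw [hg, cj_inv_cj]) hne ?_
    rw [← inf_eq_left.2 h1, ← (subn_of_sn s1).pCoreOf_eq]
    exact norm_pCoreOf (le_norm_core N M)
  refine ⟨h2, le_bot_iff.1 (h2 ▸ pCoreOf_le_of_le inf_le_right (le_inf ?_ (pCoreOf_le N)))⟩
  rw [← hR]
  simpa using (subn_of_sn (s2.trans (tw_sn hM hA hAn hAN N.one_mem))).pCoreOf_le_norm_pRes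

end

theorem FSof_eq_of {M : Subgroup G} {p : ℕ} [Fact p.Prime] (hE : Eof M = ⊥)
    (h : ∀ (q : ℕ) [Fact q.Prime], q ≠ p → pCoreOf q M = ⊥) : FSof M = pCoreOf p M := by
  rw [FSof_eq_Fof_iff.2 hE]
  refine le_antisymm (H59.Fof_le fun q _ => ?_) (H59.Op_le_Fof M)
  by_cases e : q = p
  · exact e ▸ le_rfl
  · exact (h q e).le.trans bot_le

/-- **Thompson-Wielandt** -/
theorem thompson_wielandt {M N A B : Subgroup G} (hM : PrimSub M) {g : G} (hg : N = cj g M)
    (hne : M ≠ N) (hA : A ≠ ⊥) (hAn : M ≤ normalizer (A : Set G)) (hAN : A ≤ core N M)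
    (hB : B ≠ ⊥) (hBn : N ≤ normalizer (B : Set G)) (hBM : B ≤ core M N) :
    ∃ p : ℕ, p.Prime ∧ IsPGroup p A ∧ IsPGroup p B ∧ FSof M = pCoreOf p M ∧
      FSof N = pCoreOf p N := by
  have hN : PrimSub N := hg ▸ hM.conj g
  have hg' : M = cj g⁻¹ N := by rw [hg, cj_inv_cj]
  have e1 := tw_Eof hM hA hAn hAN
  have e2 := tw_Eof hN hB hBn hBM
  rw [inf_comm, e1] at e2
  have e3 : Eof N = ⊥ := hM.eq_bot hN hne (e2 ▸ Eof_le M) (Eof_le N) (e2 ▸ le_normalizer_Eof M)
    (le_normalizer_Eof N)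
  have hAle : A ≤ M ⊓ N := hAN.trans (le_inf (core_le_right N M) (core_le_left N M))
  obtain ⟨p, hp, h0⟩ := H59.exists_Op_ne_bot (H := M ⊓ N) fun e => hA (le_bot_iff.1
    (eq_bot_of_FSof_eq_bot (X := M ⊓ N) (by rw [FSof_eq, e, e1, e3, sup_idem]) ▸ hAle))
  have := Fact.mk hp
  have hpA : IsPGroup p A := by_contra fun h => h0 (tw_pCore hM hA hAn hAN hg hne h).1
  have hpB : IsPGroup p B := by_contra fun h =>
    h0 (inf_comm M N ▸ (tw_pCore hN hB hBn hBM hg' hne.symm h).1)
  exact ⟨p, hp, hpA, hpB, FSof_eq_of (e2 ▸ e3) fun q _ hq => (tw_pCore hN hB hBn hBM hg' hne.symm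
      fun h => hB (H59.eq_bot_of_le_of_le hq h hpB le_rfl le_rfl)).2,
    FSof_eq_of e3 fun q _ hq => (tw_pCore hM hA hAn hAN hg hne
      fun h => hA (H59.eq_bot_of_le_of_le hq h hpA le_rfl le_rfl)).2⟩

/-! ### indices of cores -/

theorem relIndex_normalCore_dvd (H : Subgroup G) :
    H.normalCore.relIndex H ∣ (H.index - 1).factorial := by
  classical
  have := Fintype.ofFinite (G ⧸ H)
  rw [normalCore_eq_ker, relIndex_ker]
  have h1 : H.map (MulAction.toPermHom G (G ⧸ H)) ≤
      MulAction.stabilizer (Equiv.Perm (G ⧸ H)) ((1 : G) : G ⧸ H) := by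
    rintro _ ⟨h, hh, rfl⟩
    exact (MulAction.stabilizer_quotient H).ge hh
  refine (card_dvd_of_le h1).trans (dvd_of_eq ?_)
  have h2 := (MulAction.stabilizer (Equiv.Perm (G ⧸ H)) ((1 : G) : G ⧸ H)).card_mul_index
  rw [MulAction.index_stabilizer_of_transitive, Nat.card_perm, ← index_eq_card,
    ← Nat.mul_factorial_pred H.index_ne_zero_of_finite, mul_comm H.index] at h2
  exact Nat.eq_of_mul_eq_mul_right (Nat.pos_of_ne_zero H.index_ne_zero_of_finite) h2

theorem index_normalCore_dvd (H : Subgroup G) : H.normalCore.index ∣ H.index.factorial := by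
  rw [← relIndex_mul_index H.normalCore_le, ← Nat.mul_factorial_pred H.index_ne_zero_of_finite,
    mul_comm H.index]
  exact Nat.mul_dvd_mul_right (relIndex_normalCore_dvd H) _

omit [Finite G] in
theorem index_biInf_dvd {ι : Type*} (s : Finset ι) (N : ι → Subgroup G) (hN : ∀ i, (N i).Normal)
    {e : ℕ} (he : ∀ i, (N i).index ∣ e) : (⨅ i ∈ s, N i).index ∣ e ^ s.card := by
  classical
  induction s using Finset.induction_on with
  | empty => simp
  | insert i s hi ih =>
    have := hN i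
    rw [Finset.iInf_insert, Finset.card_insert_of_notMem hi, pow_succ',
      ← relIndex_mul_index inf_le_right, inf_relIndex_right]
    exact Nat.mul_dvd_mul ((relIndex_dvd_index_of_normal _ _).trans (he i)) ih

theorem index_core_dvd {B N : Subgroup G} (h1 : N ≤ B) (h2 : B ≤ normalizer (N : Set G)) {e : ℕ}
    (he : N.relIndex B ∣ e) : N.normalCore.index ∣ B.index.factorial * e ^ B.index := by
  classical
  have := Fintype.ofFinite (G ⧸ B)
  rw [← relIndex_mul_index (normalCore_mono h1), mul_comm]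
  refine Nat.mul_dvd_mul (index_normalCore_dvd B) ?_
  have e1 : ∀ g : G, cj g B.normalCore = B.normalCore := fun g =>
    cj_eq_self ((norm_of_normal (L := ⊤)) (mem_top g))
  have e2 : N.normalCore.subgroupOf B.normalCore =
      ⨅ q ∈ (Finset.univ : Finset (G ⧸ B)), (cj q.out N).subgroupOf B.normalCore := by
    ext x
    simp only [mem_subgroupOf, mem_iInf, Finset.mem_univ, forall_true_left, mem_cj]
    refine ⟨fun h q => by simpa using h q.out⁻¹, fun h g => ?_⟩
    obtain ⟨b, hb⟩ := QuotientGroup.mk_out_eq_mul B g⁻¹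
    have := conj_mem_of_le_norm h2 b.2 (h (g⁻¹ : G))
    rw [hb] at this
    simpa [mul_assoc] using this
  rw [relIndex, e2, index_eq_card B, Nat.card_eq_fintype_card]
  refine index_biInf_dvd _ _ (fun q => ?_) fun q => ?_
  · refine (normal_subgroupOf_iff_le_normalizer_inf).2 (norm_inf ?_ (norm_of_le le_rfl))
    rw [← cj_normalizer, ← e1 q.out]
    exact cj_mono _ (B.normalCore_le.trans h2)
  · refine Dvd.dvd.trans ?_ he
    have := (normal_subgroupOf_iff_le_normalizer h1).2 h2
    have h3 := relIndex_dvd_index_of_normal (N.subgroupOf B) (B.normalCore.subgroupOf B)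
    rw [relIndex_subgroupOf B.normalCore_le] at h3
    change (cj q.out N).relIndex B.normalCore ∣ _
    rwa [← e1 q.out, relIndex_map_map_of_injective _ _ (MulAut.conj q.out).injective]

/-- the second core has index dividing the Wielandt bound -/
theorem index_core_core_dvd {M N : Subgroup G} {d : ℕ} (h1 : N.relIndex M = d)
    (h2 : M.relIndex N = d) : ((core N M).subgroupOf M).normalCore.index ∣
      d.factorial * (d - 1).factorial ^ d := by
  have := index_core_dvd (B := N.subgroupOf M) (N := (core N M).subgroupOf M)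
    (comap_mono (core_le_left N M)) (norm_comap _ (by
      rw [subgroupOf_map_subtype]; exact inf_le_left.trans (le_norm_core N M)))
    (e := (d - 1).factorial) (by
      have h3 := relIndex_normalCore_dvd (M.subgroupOf N)
      rw [← relIndex_map_map_of_injective _ _ N.subtype_injective, subgroupOf_map_subtype] at h3
      rw [← relIndex_map_map_of_injective _ _ M.subtype_injective, subgroupOf_map_subtype,
        subgroupOf_map_subtype, inf_eq_left.2 (core_le_right N M), inf_comm, ← h2]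
      exact h3)
  rwa [show (N.subgroupOf M).index = d from h1] at this

theorem relIndex_symm {M N : Subgroup G} (h : Nat.card M = Nat.card N) :
    M.relIndex N = N.relIndex M := by
  have h1 := relIndex_mul_index (inf_le_left : M ⊓ N ≤ M)
  have h2 := relIndex_mul_index (inf_le_right : M ⊓ N ≤ N)
  have h3 := M.card_mul_index
  have h4 := N.card_mul_index
  rw [inf_relIndex_left] at h1
  rw [inf_relIndex_right] at h2
  rw [h, ← h4] at h3
  rw [Nat.eq_of_mul_eq_mul_left Nat.card_pos h3, ← h2] at h1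
  exact (Nat.eq_of_mul_eq_mul_right (Nat.pos_of_ne_zero N.index_ne_zero_of_finite) h1).symm

/-- the dichotomy: Wielandt's bound, or the Thompson-Wielandt situation -/
theorem card_dvd_or {M N : Subgroup G} (hM : PrimSub M) {g : G} (hg : N = cj g M) (hne : M ≠ N)
    {d : ℕ} (hd : N.relIndex M = d) :
    Nat.card M ∣ d.factorial * (d - 1).factorial ^ d ∨
      (core M (core N M) ≠ ⊥ ∧ ∃ p : ℕ, p.Prime ∧ IsPGroup p (core M (core N M)) ∧
        FSof M = pCoreOf p M) := by
  have hc : Nat.card M = Nat.card N := by rw [hg, card_cj]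
  have hd' := (relIndex_symm hc).trans hd
  by_cases h1 : core M (core N M) = ⊥
  · have := index_core_core_dvd hd hd'
    rw [map_subtype_eq_bot_iff.1 h1, index_bot] at this
    exact Or.inl this
  by_cases h2 : core N (core M N) = ⊥
  · have := index_core_core_dvd hd' hd
    rw [map_subtype_eq_bot_iff.1 h2, index_bot] at this
    exact Or.inl (hc ▸ this)
  obtain ⟨p, hp, h3, -, h4, -⟩ := thompson_wielandt hM hg hne h1 (le_norm_core _ _)
    (core_le_right _ _) h2 (le_norm_core _ _) (core_le_right _ _)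
  exact Or.inr ⟨h1, p, hp, h3, h4⟩

open MulAction in
/-- point stabilisers of a primitive group -/
theorem stab_setup {Ω : Type*} [MulAction G Ω] [FaithfulSMul G Ω] (hprim : IsPreprimitive G Ω)
    (a b : Ω) {d : ℕ} (hd : Nat.card (orbit (stabilizer G a) b) = d) (h2 : 2 ≤ d) :
    IsCoatom (stabilizer G a) ∧ (stabilizer G a).normalCore = ⊥ ∧
      (∃ g : G, stabilizer G b = cj g (stabilizer G a)) ∧ stabilizer G a ≠ stabilizer G b ∧
      (stabilizer G b).relIndex (stabilizer G a) = d := by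
  have h1 : (stabilizer G b).relIndex (stabilizer G a) = d := by
    rw [← hd, Nat.card_coe_set_eq, ← index_stabilizer]
    rfl
  have hne : stabilizer G a ≠ stabilizer G b := fun e => by
    rw [e, relIndex_self] at h1
    omega
  have : Nontrivial Ω := ⟨⟨a, b, fun e => hne (e ▸ rfl)⟩⟩
  refine ⟨IsPreprimitive.isCoatom_stabilizer_of_isPreprimitive G a, ?_, ?_, hne, h1⟩
  · refine eq_bot_iff.2 fun x hx => mem_bot.2 (eq_of_smul_eq_smul (α := Ω) fun c => ?_)
    obtain ⟨k, rfl⟩ := exists_smul_eq G a c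
    have : (k⁻¹ * x * k⁻¹⁻¹) • a = a := hx k⁻¹
    rw [inv_inv, mul_smul, mul_smul, inv_smul_eq_iff] at this
    rw [this, one_smul]
  · obtain ⟨g, rfl⟩ := exists_smul_eq G a b
    exact ⟨g, stabilizer_smul_eq_stabilizer_map_conj g a⟩

open MulAction in
omit [Finite G] in
theorem mem_core_stab {Ω : Type*} [MulAction G Ω] {a b : Ω} {x : stabilizer G a} :
    (x : G) ∈ core (stabilizer G a) (stabilizer G b) ↔
      x ∈ (toPermHom (stabilizer G a) (orbit (stabilizer G a) b)).ker := by
  rw [mem_core, MonoidHom.mem_ker, Equiv.ext_iff]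
  constructor
  · rintro ⟨-, h⟩ ⟨_, k, rfl⟩
    have : ((k : G)⁻¹ * x * (k : G)⁻¹⁻¹) • b = b := h _ (inv_mem k.2)
    rw [inv_inv, mul_smul, mul_smul, inv_smul_eq_iff] at this
    exact Subtype.ext this
  · refine fun h => ⟨x.2, fun k hk => ?_⟩
    have : (x : G) • k⁻¹ • b = k⁻¹ • b :=
      congrArg Subtype.val (h ⟨k⁻¹ • b, ⟨k⁻¹, inv_mem hk⟩, rfl⟩)
    rw [mem_stabilizer_iff, mul_smul, mul_smul, this, smul_inv_smul]

/-- if `O_p(M ⊓ N)` lies in the core it is trivial -/
theorem pCore_eq_bot_of_le_core {M N : Subgroup G} (hM : PrimSub M) {g : G} (hg : N = cj g M)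
    (hne : M ≠ N) {p : ℕ} [Fact p.Prime] (h : pCoreOf p (M ⊓ N) ≤ core M N) :
    pCoreOf p (M ⊓ N) = ⊥ := by
  have s1 : Subn (core M N) (M ⊓ N) := Subn.of_norm
    (le_inf (core_le_left M N) (core_le_right M N)) (inf_le_left.trans (le_norm_core M N))
  rw [inf_comm]
  refine hM.pCore_inf_eq_bot hg hne.symm ?_
  rw [inf_comm, ← inf_eq_left.2 h, ← s1.pCoreOf_eq]
  exact norm_pCoreOf (le_norm_core M N)

theorem pCore_le_ker {M N : Subgroup G} {X : Type*} [Group X] (f : M →* X) {p : ℕ}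
    (h : pCoreOf p ((N.subgroupOf M).map f) = ⊥) {x : M} (hx : (x : G) ∈ pCoreOf p (M ⊓ N)) :
    x ∈ f.ker := by
  rw [inf_comm, ← subgroupOf_map_subtype, ← map_subtype_pCoreOf] at hx
  obtain ⟨y, hy, e⟩ := hx
  rw [← Subtype.val_injective e]
  exact mem_bot.1 (h ▸ map_pCoreOf_le f _ ⟨y, hy, rfl⟩)

end Cfsg.Agent.H78
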