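import Cfsg.Agent.H78.PrimeGraph

set_option autoImplicit false

/-! Arbitrarily large Frobenius groups with element orders `1, p, q`. -/

namespace Cfsg.Agent.H78

/-- products of `p`-elements are `p`-elements -/
def PE (p : ℕ) (X : Type*) [Group X] : Prop :=
  ∀ x y : X, (∃ k, x ^ p ^ k = 1) → (∃ k, y ^ p ^ k = 1) → ∃ k, (x * y) ^ p ^ k = 1

theorem frob_spectrum {L W : Type*} [Group L] [Finite L] [CommGroup W] [Nontrivial W]
    (φ : L →* MulAut W) {p q : ℕ} (hp : p.Prime) (hq : q.Prime) (hpq : p ≠ q)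
    (hW : ∀ w : W, w ^ p = 1) (hL : Nat.card L = q)
    (hfix : ∀ g : L, g ≠ 1 → ∀ w : W, φ g w = w → w = 1) :
    Set.range (orderOf : W ⋊[φ] L → ℕ) = {1, p, q} ∧ PE p (W ⋊[φ] L) := by
  have := Fact.mk hp
  have := Fact.mk hq
  have hker : ∀ y : W ⋊[φ] L, y.right = 1 → y = SemidirectProduct.inl y.left := by
    intro y hy
    ext
    · rfl
    · exact hy
  have h1 : ∀ y : W ⋊[φ] L, y.right = 1 → y ^ p = 1 := fun y hy => by
    rw [hker y hy, ← map_pow, hW, map_one]
  have h2 : ∀ y : W ⋊[φ] L, y.right ≠ 1 → orderOf y = q := by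
    intro y hy
    have h3 : (y ^ q).right = 1 := by
      change SemidirectProduct.rightHom (y ^ q) = 1
      rw [map_pow, ← hL, pow_card_eq_one']
    refine orderOf_eq_prime ?_ (fun h => hy (by rw [h]; rfl))
    have hc : Commute (y ^ q) y := Commute.pow_self y q
    have h4 := congrArg SemidirectProduct.left hc.eq
    simp only [SemidirectProduct.mul_left, h3, map_one, MulAut.one_apply] at h4
    rw [mul_comm] at h4
    rw [hker _ h3, hfix _ hy _ (mul_left_cancel h4).symm, map_one]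
  constructor
  · ext n
    constructor
    · rintro ⟨y, rfl⟩
      by_cases hy : y.right = 1
      · rcases (Nat.dvd_prime hp).mp (orderOf_dvd_of_pow_eq_one (h1 y hy)) with h | h
        · exact Or.inl h
        · exact Or.inr (Or.inl h)
      · exact Or.inr (Or.inr (h2 y hy))
    · rintro (rfl | rfl | rfl)
      · exact ⟨1, orderOf_one⟩
      · obtain ⟨w, hw⟩ := exists_ne (1 : W)
        exact ⟨SemidirectProduct.inl w, by
          rw [orderOf_injective _ SemidirectProduct.inl_injective, orderOf_eq_prime (hW w) hw]⟩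
      · have : Nontrivial L := Finite.one_lt_card_iff_nontrivial.mp (hL ▸ hq.one_lt)
        obtain ⟨g, hg⟩ := exists_ne (1 : L)
        exact ⟨SemidirectProduct.inr g, h2 _ hg⟩
  · have h3 : ∀ y : W ⋊[φ] L, (∃ k, y ^ p ^ k = 1) → y.right = 1 := by
      rintro y ⟨k, hk⟩
      by_contra hy
      have := orderOf_dvd_of_pow_eq_one hk
      rw [h2 y hy] at this
      exact hpq ((Nat.prime_dvd_prime_iff_eq hq hp).mp (hq.dvd_of_dvd_pow this)).symm
    intro x y hx hy
    refine ⟨1, ?_⟩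
    rw [pow_one]
    apply h1
    rw [SemidirectProduct.mul_right, h3 x hx, h3 y hy, mul_one]

/-- Frobenius groups of unbounded order with element orders `1, p, q` and a normal Sylow
`p`-subgroup -/
theorem exists_frob_pq {p q : ℕ} (hp : p.Prime) (hq : q.Prime) (hpq : p ≠ q) (N : ℕ) :
    ∃ (X : Type) (_ : Group X) (_ : Finite X), N < Nat.card X ∧
      Set.range (orderOf : X → ℕ) = {1, p, q} ∧ PE p X := by
  have := Fact.mk hp
  have := Fact.mk hq
  have hq1 : q - 1 ≠ 0 := by have := hq.two_le; omega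
  let K := GaloisField p (q - 1)
  have hK : Nat.card Kˣ = p ^ (q - 1) - 1 := by
    rw [Nat.card_units, GaloisField.card p _ hq1]
  have hd : q ∣ Nat.card Kˣ := by
    rw [hK]
    have h1 := Nat.ModEq.pow_totient ((Nat.coprime_primes hp hq).mpr hpq)
    rw [Nat.totient_prime hq] at h1
    exact (Nat.modEq_iff_dvd' (Nat.one_le_pow _ _ hp.pos)).mp h1.symm
  obtain ⟨ζ, hζ⟩ := exists_prime_orderOf_dvd_card' q hd
  let L := Subgroup.zpowers ζ
  let ρ : L →* AddMonoid.End K :=
    { toFun := fun g => AddMonoidHom.mulLeft ((g : Kˣ) : K)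
      map_one' := by ext v; exact one_mul v
      map_mul' := fun a b => by ext v; exact mul_assoc _ _ v }
  have hs := frob_spectrum (piAct ρ (N + 1)) hp hq hpq (by
      intro w; ext i
      change p • (w i).toAdd = 0
      rw [nsmul_eq_mul, CharP.cast_eq_zero, zero_mul])
    (by rw [Nat.card_zpowers, hζ]) (by
      intro g hg w hw
      ext i
      have h1 : ((g : Kˣ) : K) * (w i).toAdd = (w i).toAdd := congrFun hw i
      by_contra hne
      apply hg
      have h2 : ((g : Kˣ) : K) = 1 := mul_right_cancel₀ (b := (w i).toAdd) hne (by rw [h1, one_mul])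
      exact Subtype.ext (Units.ext h2))
  refine ⟨_, inferInstance, Finite.of_equiv _ SemidirectProduct.equivProd.symm, ?_, hs⟩
  rw [SemidirectProduct.card, Nat.card_fun, Nat.card_fin]
  have h1 : 1 < Nat.card (Multiplicative K) := Finite.one_lt_card
  have h2 : 0 < Nat.card L := Nat.card_pos
  calc N < Nat.card (Multiplicative K) ^ (N + 1) := (Nat.lt_succ_self N).trans (Nat.lt_pow_self h1)
    _ ≤ _ := Nat.le_mul_of_pos_right _ h2

theorem pe_subgroup {p : ℕ} {X : Type*} [Group X] (h : PE p X) (H : Subgroup X) : PE p H := by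
  rintro x y ⟨k, hk⟩ ⟨l, hl⟩
  obtain ⟨m, hm⟩ := h x y ⟨k, congrArg Subtype.val hk⟩ ⟨l, congrArg Subtype.val hl⟩
  exact ⟨m, Subtype.ext hm⟩

theorem exists_lift_pelement {p : ℕ} (hp : p.Prime) {X Y : Type*} [Group X] [Finite X] [Group Y]
    (f : X →* Y) (hf : Function.Surjective f) (y : Y) (hy : ∃ k, y ^ p ^ k = 1) :
    ∃ x : X, f x = y ∧ ∃ k, x ^ p ^ k = 1 := by
  obtain ⟨k, hk⟩ := hy
  obtain ⟨x, rfl⟩ := hf y
  obtain ⟨a, m, hm, ham⟩ := Nat.exists_eq_pow_mul_and_not_dvd (orderOf_pos x).ne' p hp.ne_one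
  have hcop : m.Coprime (p ^ (k + 1)) := ((Nat.Prime.coprime_iff_not_dvd hp).mpr hm).symm.pow_right _
  obtain ⟨u, -, hu⟩ := Nat.exists_mul_mod_eq_one_of_coprime hcop
    (Nat.one_lt_pow (Nat.succ_ne_zero k) hp.one_lt)
  refine ⟨x ^ (m * u), ?_, a, ?_⟩
  · have h1 : f x ^ p ^ (k + 1) = 1 := by rw [pow_succ, pow_mul, hk, one_pow]
    rw [map_pow, ← Nat.div_add_mod (m * u) (p ^ (k + 1)), hu, pow_add, pow_mul, h1, one_pow,
      one_mul, pow_one]
  · rw [← pow_mul, show m * u * p ^ a = (p ^ a * m) * u by ring, ← ham, pow_mul,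
      pow_orderOf_eq_one, one_pow]

theorem pe_of_surjective {p : ℕ} (hp : p.Prime) {X Y : Type*} [Group X] [Finite X] [Group Y]
    (h : PE p X) (f : X →* Y) (hf : Function.Surjective f) : PE p Y := by
  intro x y hx hy
  obtain ⟨x', rfl, hx'⟩ := exists_lift_pelement hp f hf x hx
  obtain ⟨y', rfl, hy'⟩ := exists_lift_pelement hp f hf y hy
  obtain ⟨k, hk⟩ := h x' y' hx' hy'
  exact ⟨k, by rw [← map_mul, ← map_pow, hk, map_one]⟩

theorem commute_of_pe {p q : ℕ} (hp : p.Prime) (hq : q.Prime) (hpq : p ≠ q) {X : Type*} [Group X]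
    (h : PE p X) (h' : PE q X) {x y : X} (hx : x ^ p = 1) (hy : y ^ q = 1) : Commute x y := by
  obtain ⟨k, hk⟩ := h x (y * x⁻¹ * y⁻¹) ⟨1, by rwa [pow_one]⟩
    ⟨1, by rw [pow_one, conj_pow, inv_pow, hx]; simp⟩
  obtain ⟨l, hl⟩ := h' (x * y * x⁻¹) y⁻¹ ⟨1, by rw [pow_one, conj_pow, hy]; simp⟩
    ⟨1, by rw [pow_one, inv_pow, hy]; simp⟩
  have h1 : x * (y * x⁻¹ * y⁻¹) = x * y * x⁻¹ * y⁻¹ := by group
  rw [h1] at hk
  have h2 := Nat.dvd_gcd (orderOf_dvd_of_pow_eq_one hk) (orderOf_dvd_of_pow_eq_one hl)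
  rw [Nat.Coprime.gcd_eq_one (Nat.coprime_pow_primes _ _ hp hq hpq), Nat.dvd_one,
    orderOf_eq_one_iff] at h2
  exact commutatorElement_eq_one_iff_commute.mp h2

end Cfsg.Agent.H78
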