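/-
Sims' theorem on primitive groups with a suborbit of length three.
-/
import Cfsg.Agent.H78.TW
import Cfsg.Agent.S1012
import Cfsg.Agent.S0051
import Cfsg.Agent.H42.Index2

set_option autoImplicit false
set_option linter.unusedSectionVars false

namespace Cfsg.Agent.H78

open Cfsg Subgroup Cfsg.Agent.H70
open scoped commutatorElement

universe u
variable {G : Type u} [Group G]

/-- elements of `A` outside `B` lie in one coset of `B` -/
def Idx2 (A B : Subgroup G) : Prop := ∀ u ∈ A, ∀ v ∈ A, u ∉ B → v ∉ B → u⁻¹ * v ∈ B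

theorem Idx2.conj_mem {A B : Subgroup G} (h : Idx2 A B) {u k : G} (hu : u ∈ A) (hk : k ∈ A)
    (hkB : k ∈ B) : u * k * u⁻¹ ∈ B := by
  by_cases e : u ∈ B
  · exact B.mul_mem (B.mul_mem e hkB) (B.inv_mem e)
  · have := h u⁻¹ (A.inv_mem hu) (k * u⁻¹) (A.mul_mem hk (A.inv_mem hu)) (by simpa using e)
      (by rwa [B.mul_mem_cancel_left hkB, B.inv_mem_iff])
    rwa [inv_inv, ← mul_assoc] at this

theorem Idx2.comm_mem {A B : Subgroup G} (h : Idx2 A B) {u v : G} (hu : u ∈ A) (hv : v ∈ A) :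
    ⁅u, v⁆ ∈ B := by
  rw [commutatorElement_def]
  by_cases e : v ∈ B
  · exact B.mul_mem (h.conj_mem hu hv e) (B.inv_mem e)
  · have e1 : u * v * u⁻¹ ∉ B := fun c => e (by
      simpa [mul_assoc] using h.conj_mem (A.inv_mem hu) (A.mul_mem (A.mul_mem hu hv) (A.inv_mem hu)) c)
    have := h (u * v * u⁻¹)⁻¹ (A.inv_mem (A.mul_mem (A.mul_mem hu hv) (A.inv_mem hu))) v⁻¹
      (A.inv_mem hv) (by rwa [B.inv_mem_iff]) (by rwa [B.inv_mem_iff])
    rwa [inv_inv] at this

theorem Idx2.conj {A B : Subgroup G} (h : Idx2 A B) (g : G) : Idx2 (cj g A) (cj g B) := by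
  intro u hu v hv h1 h2
  rw [mem_cj] at *
  simpa [mul_assoc] using h _ hu _ hv h1 h2

theorem idx2_of_relIndex {A B : Subgroup G} (h : B.relIndex A = 2) : Idx2 A B := by
  intro u hu v hv h1 h2
  have := (mul_mem_iff_of_index_two h (a := ⟨u⁻¹, A.inv_mem hu⟩) (b := ⟨v, hv⟩)).2
    (by simp [mem_subgroupOf, h1, h2])
  exact this

theorem card_mul_relIndex {A B : Subgroup G} (h : A ≤ B) :
    Nat.card A * A.relIndex B = Nat.card B := by
  rw [← (A.subgroupOf B).card_mul_index, Nat.card_congr (subgroupOfEquivOfLe h).toEquiv]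
  rfl

/-- the data of a bi-infinite path -/
structure Sims (a : G) (B M : Subgroup G) : Prop where
  i1 : Idx2 B (cj a B)
  i2 : Idx2 (cj a B) B
  ne : cj a B ≠ B
  sup : B ⊔ cj a B = cj a M
  le : B ≤ M
  coatom : IsCoatom M
  prim : PrimSub M
  neM : cj a M ≠ M

/-- stabiliser of the part of the path between `s` and `t` -/
def SF (a : G) (B : Subgroup G) (s t : ℤ) : Subgroup G := ⨅ l ∈ Set.Icc s t, cj (a ^ l) B

variable {a : G} {B M : Subgroup G}

theorem mem_SF {s t : ℤ} {u : G} : u ∈ SF a B s t ↔ ∀ l, s ≤ l → l ≤ t → u ∈ cj (a ^ l) B := by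
  simp only [SF, mem_iInf, Set.mem_Icc, and_imp]

attribute [irreducible] SF

theorem SF_mono {s t s' t' : ℤ} (h1 : s' ≤ s) (h2 : t ≤ t') : SF a B s' t' ≤ SF a B s t :=
  fun _ hu => mem_SF.2 fun l a b => mem_SF.1 hu l (h1.trans a) (b.trans h2)

theorem SF_self (s : ℤ) : SF a B s s = cj (a ^ s) B :=
  le_antisymm (fun _ hu => mem_SF.1 hu s le_rfl le_rfl)
    fun _ hu => mem_SF.2 fun _ a b => le_antisymm a b ▸ hu

theorem cj_SF (k s t : ℤ) : cj (a ^ k) (SF a B s t) = SF a B (s + k) (t + k) := by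
  ext u
  have e : ∀ l, (a ^ k)⁻¹ * u * a ^ k ∈ cj (a ^ l) B ↔ u ∈ cj (a ^ (l + k)) B := fun l => by
    rw [← mem_cj, ← cj_mul, ← zpow_add, add_comm]
  simp only [mem_cj (g := a ^ k), mem_SF, e]
  exact ⟨fun h l h1 h2 => by simpa using h (l - k) (by omega) (by omega),
    fun h l h1 h2 => h _ (by omega) (by omega)⟩

theorem mem_SF_right {s t : ℤ} {u : G} (h : u ∈ SF a B s t) (h' : u ∈ cj (a ^ (t + 1)) B) :
    u ∈ SF a B s (t + 1) := mem_SF.2 fun l h1 h2 =>
  (lt_or_eq_of_le h2).elim (fun h3 => mem_SF.1 h l h1 (by omega)) fun e => e ▸ h'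

theorem mem_SF_left {s t : ℤ} {u : G} (h : u ∈ SF a B s t) (h' : u ∈ cj (a ^ (s - 1)) B) :
    u ∈ SF a B (s - 1) t := mem_SF.2 fun l h1 h2 =>
  (lt_or_eq_of_le h1).elim (fun h3 => mem_SF.1 h l (by omega) h2) fun e => e ▸ h'

theorem mem_SF_union {s t s' t' : ℤ} {u : G} (h : u ∈ SF a B s t) (h' : u ∈ SF a B s' t')
    (h1 : s' ≤ t + 1) : u ∈ SF a B s t' := mem_SF.2 fun l h2 h3 =>
  (le_or_gt l t).elim (mem_SF.1 h l h2) fun h4 => mem_SF.1 h' l (by omega) h3

namespace Sims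

variable (h : Sims a B M)
include h

theorem up (i : ℤ) : Idx2 (cj (a ^ i) B) (cj (a ^ (i + 1)) B) := by
  simpa [← cj_mul, zpow_add_one] using h.i1.conj (a ^ i)

theorem down (i : ℤ) : Idx2 (cj (a ^ i) B) (cj (a ^ (i - 1)) B) := by
  simpa [← cj_mul, ← zpow_add_one] using h.i2.conj (a ^ (i - 1))

theorem sup' (i : ℤ) : cj (a ^ i) B ⊔ cj (a ^ (i + 1)) B = cj (a ^ (i + 1)) M := by
  rw [zpow_add_one, cj_mul, cj_mul, ← cj_sup, h.sup]

theorem eq_top {H : Subgroup G} (i : ℤ) (h0 : cj (a ^ i) B ≤ H) (h1 : cj (a ^ (i + 1)) B ≤ H)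
    (h2 : cj (a ^ (i + 1 + 1)) B ≤ H) : H = ⊤ := by
  have e1 := h.sup' i ▸ sup_le h0 h1
  have e2 := h.sup' (i + 1) ▸ sup_le h1 h2
  refine ((cj_isCoatom (g := a ^ (i + 1)) h.coatom).le_iff.1 e1).resolve_right fun e => h.neM ?_
  rw [e, zpow_add_one _ (i + 1), cj_mul, cj_le_cj_iff] at e2
  exact ((cj_isCoatom h.coatom).le_iff.1 e2).resolve_left h.coatom.1 |>.symm

theorem eq_bot {K : Subgroup G} (i : ℤ) (hK : K ≤ cj (a ^ i) B)
    (hn : normalizer (K : Set G) = ⊤) : K = ⊥ := by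
  by_contra h0
  exact (cj_isCoatom h.coatom).1 ((h.prim.conj (a ^ i) K h0 (hK.trans (cj_mono _ h.le))
    (hn ▸ le_top)).symm.trans hn)

theorem norm_SF {s t : ℤ} (hst : s ≤ t) :
    SF a B s t ≤ normalizer (SF a B (s - 1) (t + 1) : Set G) ⊓
      normalizer (SF a B s (t + 1) : Set G) := by
  have k1 : ∀ u ∈ SF a B s t, ∀ k ∈ SF a B s (t + 1), u * k * u⁻¹ ∈ SF a B s (t + 1) :=
    fun u hu k hk => mem_SF_right (mul_mem (mul_mem hu (SF_mono le_rfl (by omega) hk)) (inv_mem hu))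
      ((h.up t).conj_mem (mem_SF.1 hu t hst le_rfl) (mem_SF.1 hk t hst (by omega))
        (mem_SF.1 hk _ (by omega) le_rfl))
  refine le_inf (le_norm_iff_cj.2 fun u hu => cj_le_iff.2 fun k hk => mem_SF_left
    (k1 u hu k (SF_mono (by omega) le_rfl hk)) ?_) (le_norm_iff_cj.2 fun u hu => cj_le_iff.2 (k1 u hu))
  exact (h.down s).conj_mem (mem_SF.1 hu s le_rfl hst) (mem_SF.1 hk s (by omega) (by omega))
    (mem_SF.1 hk _ le_rfl (by omega))

variable [Finite G]

theorem exists_n : ∃ n : ℕ, 1 ≤ n ∧ SF a B 0 n = ⊥ ∧ SF a B 0 (n - 1) ≠ ⊥ := by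
  classical
  have ex : ∃ n : ℕ, SF a B 0 (n + 1) = SF a B 0 n := by
    obtain ⟨_, ⟨n, rfl⟩, hmin⟩ := (wellFounded_lt (α := Subgroup G)).has_min
      (Set.range fun n : ℕ => SF a B 0 n) ⟨_, 0, rfl⟩
    exact ⟨n, (SF_mono le_rfl (by omega)).eq_or_lt.resolve_right
      (hmin _ ⟨n + 1, by simp⟩)⟩
  obtain ⟨n, hn, hlt⟩ : ∃ n : ℕ, SF a B 0 (n + 1) = SF a B 0 n ∧
      ∀ j < n, SF a B 0 ((j : ℤ) + 1) ≠ SF a B 0 j :=
    ⟨_, Nat.find_spec ex, fun j hj => Nat.find_min ex hj⟩
  have h1 : 1 ≤ n := by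
    by_contra c
    rw [show n = 0 by omega, Nat.cast_zero, SF_self, zpow_zero, cj_one] at hn
    have : B ≤ cj a B := fun u hu => by simpa using mem_SF.1 (hn ▸ hu) 1 (by omega) (by omega)
    exact h.ne (eq_of_le_of_card_ge this (card_cj a B).le).symm
  obtain ⟨N, hN⟩ : ∃ N, N = normalizer (SF a B 0 n : Set G) := ⟨_, rfl⟩
  have ha : a ∈ N := by
    rw [hN]
    refine (inv_mem_iff).1 (mem_normalizer_of_cj_le (le_cj_iff.1 ?_))
    have := cj_SF (a := a) (B := B) 1 0 n
    rw [zpow_one] at this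
    rw [this]
    exact hn.ge.trans (SF_mono (by omega) le_rfl)
  have sh : ∀ s t k, SF a B s t ≤ N → SF a B (s + k) (t + k) ≤ N := fun s t k hh => by
    rw [← cj_SF]; exact cj_le_of_mem (N.zpow_mem ha k) hh
  have key : ∀ i : ℕ, i + 1 ≤ n → SF a B 0 (n - 1 - i) ≤ N := by
    intro i
    induction i with
    | zero =>
      intro _
      simpa [hN] using (h.norm_SF (s := 0) (t := n - 1) (by omega)).trans inf_le_right
    | succ i ih =>
      intro hi u hu
      obtain ⟨j, hj⟩ : ∃ j : ℕ, n = j + i + 1 := ⟨n - i - 1, by omega⟩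
      have e1 : (n : ℤ) - 1 - i = j := by omega
      have e2 : (n : ℤ) - 1 - (i + 1 : ℕ) = j - 1 := by omega
      have ih' := e1 ▸ ih (by omega)
      rw [e2] at hu
      have up := h.up (j - 1)
      have r : ∀ v ∈ SF a B 0 ((j : ℤ) - 1), v ∈ cj (a ^ ((j : ℤ) - 1 + 1)) B → v ∈ N := fun v h1 h2 =>
        ih' (by simpa using mem_SF_right h1 h2)
      by_cases c : u ∈ cj (a ^ ((j : ℤ) - 1 + 1)) B
      · exact r u hu c
      obtain ⟨w, hw, hw'⟩ : ∃ w ∈ SF a B (0 + -1) (j + -1), w ∉ cj (a ^ ((j : ℤ) - 1 + 1)) B := by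
        by_contra c'
        push Not at c'
        refine hlt j (by omega) (le_antisymm (SF_mono le_rfl (by omega)) ?_)
        have : SF a B (0 + -1) (j + -1) ≤ SF a B (0 + -1) (j + 1 + -1) := fun v hv => by
          simpa using mem_SF_right hv (c' v hv)
        rwa [← cj_SF, ← cj_SF, cj_le_cj_iff] at this
      have hw1 : w ∈ SF a B 0 (j - 1) := SF_mono (by omega) (by omega) hw
      have := r _ (mul_mem (inv_mem hw1) hu) (up w (mem_SF.1 hw1 _ (by omega) le_rfl) u
        (mem_SF.1 hu _ (by omega) le_rfl) hw' c)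
      exact (N.mul_mem_cancel_left (N.inv_mem (sh _ _ _ ih' hw))).1 this
  have k0 : ∀ k : ℤ, cj (a ^ k) B ≤ N := fun k => by
    have := sh _ _ k (key (n - 1) (by omega))
    rwa [show (n : ℤ) - 1 - (n - 1 : ℕ) = 0 by omega, zero_add, SF_self] at this
  have hb : SF a B 0 n = ⊥ := h.eq_bot 0 (SF_self (a := a) (B := B) 0 ▸ SF_mono le_rfl (by omega))
    (hN ▸ h.eq_top 0 (k0 _) (k0 _) (k0 _))
  refine ⟨n, h1, hb, fun e => hlt (n - 1) (by omega) ?_⟩
  rw [show ((n - 1 : ℕ) : ℤ) = n - 1 by omega, e, sub_add_cancel, hb]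

end Sims

/-- the path data together with the generators `x i` -/
structure SimsX (a : G) (B M : Subgroup G) (n : ℕ) (x : ℤ → G) : Prop extends Sims a B M where
  pos : 1 ≤ n
  bot : SF a B 0 n = ⊥
  sh : ∀ i k, x (i + k) = a ^ k * x i * (a ^ k)⁻¹
  mem0 : x 0 ∈ SF a B 0 (n - 1)
  ne0 : x 0 ≠ 1

theorem Sims.exists_x [Finite G] (h : Sims a B M) : ∃ n x, SimsX a B M n x := by
  obtain ⟨n, h1, h2, h3⟩ := h.exists_n
  obtain ⟨⟨y, hy⟩, hy1⟩ := ne_bot_iff_exists_ne_one.1 h3
  exact ⟨n, fun i => a ^ i * y * (a ^ i)⁻¹, h, h1, h2, fun i k => by group, by simpa using hy,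
    by simpa using hy1⟩

namespace SimsX

variable {n : ℕ} {x : ℤ → G} (h : SimsX a B M n x)
include h

theorem bot' {s t : ℤ} (hst : s + n ≤ t) {u : G} (hu : u ∈ SF a B s t) : u = 1 := by
  have := cj_SF (a := a) (B := B) s 0 n
  rw [h.bot, cj_bot] at this
  exact mem_bot.1 (this ▸ SF_mono (by omega) (by omega) hu)

theorem mem {i s t : ℤ} (h1 : i ≤ s) (h2 : t ≤ i + n - 1) : x i ∈ SF a B s t := by
  have := cj_SF (a := a) (B := B) i 0 (n - 1) ▸ conj_mem_cj (a ^ i) h.mem0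
  rw [← h.sh, zero_add] at this
  exact SF_mono h1 (by omega) this

theorem ne1 (i : ℤ) : x i ≠ 1 := fun e => h.ne0 (by
  have := h.sh 0 i
  rw [zero_add, e] at this
  simpa using this.symm)

theorem not_left (i : ℤ) : x i ∉ cj (a ^ (i - 1)) B := fun c =>
  h.ne1 i (h.bot' (by omega) (mem_SF_left (h.mem le_rfl le_rfl) c))

theorem not_right (i : ℤ) : x i ∉ cj (a ^ (i + n - 1 + 1)) B := fun c =>
  h.ne1 i (h.bot' (by omega) (mem_SF_right (h.mem le_rfl le_rfl) c))

theorem dec_left {s t : ℤ} (h1 : s ≤ t) (h2 : t ≤ s + n - 1) {u : G} (hu : u ∈ SF a B s t) :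
    u ∈ SF a B (s - 1) t ∨ (x s)⁻¹ * u ∈ SF a B (s - 1) t := by
  by_cases c : u ∈ cj (a ^ (s - 1)) B
  · exact Or.inl (mem_SF_left hu c)
  · exact Or.inr (mem_SF_left (mul_mem (inv_mem (h.mem le_rfl h2)) hu) (h.down s _
      (mem_SF.1 (h.mem le_rfl h2) s le_rfl h1) _ (mem_SF.1 hu s le_rfl h1) (h.not_left s) c))

theorem dec_right {s i : ℤ} (h1 : s ≤ i + n - 1) (h2 : i ≤ s) {u : G}
    (hu : u ∈ SF a B s (i + n - 1)) :
    u ∈ SF a B s (i + n - 1 + 1) ∨ (x i)⁻¹ * u ∈ SF a B s (i + n - 1 + 1) := by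
  by_cases c : u ∈ cj (a ^ (i + n - 1 + 1)) B
  · exact Or.inl (mem_SF_right hu c)
  · exact Or.inr (mem_SF_right (mul_mem (inv_mem (h.mem h2 le_rfl)) hu) (h.up _ _
      (mem_SF.1 (h.mem h2 le_rfl) _ h1 le_rfl) _ (mem_SF.1 hu _ h1 le_rfl) (h.not_right i) c))

theorem eq_or {i : ℤ} {u : G} (hu : u ∈ SF a B i (i + n - 1)) : u = 1 ∨ u = x i :=
  (h.dec_left (by have := h.pos; omega) le_rfl hu).imp (h.bot' (by omega))
    fun c => (inv_mul_eq_one.1 (h.bot' (by omega) c)).symm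

theorem inv (i : ℤ) : (x i)⁻¹ = x i :=
  (h.eq_or (inv_mem (h.mem le_rfl le_rfl))).resolve_left (by simpa using h.ne1 i)

theorem sq (i : ℤ) : x i * x i = 1 := by nth_rewrite 1 [← h.inv i]; exact inv_mul_cancel _

theorem gen {H : Subgroup G} {t : ℤ} (k : ℕ) (hk : k ≤ n)
    (hH : ∀ l, t - n + 1 ≤ l → l ≤ t - n + k → x l ∈ H) : SF a B (t - n + k) t ≤ H := by
  induction k with
  | zero => exact fun u hu => h.bot' (by omega) hu ▸ H.one_mem
  | succ k ih =>
    intro u hu
    have ih' := ih (by omega) fun l h1 h2 => hH l h1 (by omega)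
    have e : t - n + (k + 1 : ℕ) - 1 = t - n + k := by omega
    rcases h.dec_left (by omega) (by omega) hu with c | c
    · exact ih' (e ▸ c)
    · exact (H.mul_mem_cancel_left (H.inv_mem (hH _ (by omega) le_rfl))).1 (ih' (e ▸ c))

theorem gen' {H : Subgroup G} {s t : ℤ} (hst : s ≤ t)
    (hH : ∀ l, t - n + 1 ≤ l → l ≤ s → x l ∈ H) : SF a B s t ≤ H := by
  by_cases c : s + n ≤ t
  · exact fun u hu => h.bot' c hu ▸ H.one_mem
  · obtain ⟨k, hk⟩ : ∃ k : ℕ, s = t - n + k := ⟨(s - t + n).toNat, by omega⟩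
    exact hk ▸ h.gen k (by omega) (hk ▸ hH)

theorem gen_top {H : Subgroup G} (s : ℤ) (hH : ∀ l, s - n + 1 ≤ l → l ≤ s + 2 → x l ∈ H) :
    H = ⊤ := by
  refine h.eq_top s ?_ ?_ ?_ <;> rw [← SF_self] <;>
    exact h.gen' le_rfl fun l _ _ => hH l (by omega) (by omega)

theorem comm_sh {i j : ℤ} (k : ℤ) : ⁅x (i + k), x (j + k)⁆ = a ^ k * ⁅x i, x j⁆ * (a ^ k)⁻¹ := by
  rw [h.sh, h.sh]; group

theorem commute_sh {i j : ℤ} (k : ℤ) : Commute (x (i + k)) (x (j + k)) ↔ Commute (x i) (x j) := by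
  rw [← commutatorElement_eq_one_iff_commute, ← commutatorElement_eq_one_iff_commute, h.comm_sh]
  simp

theorem comm_mem {s t : ℤ} (hst : s ≤ t) {u v : G} (hu : u ∈ SF a B s t) (hv : v ∈ SF a B s t) :
    ⁅u, v⁆ ∈ SF a B (s - 1) (t + 1) :=
  mem_SF_left (mem_SF_right (mul_mem (mul_mem (mul_mem hu hv) (inv_mem hu)) (inv_mem hv))
    ((h.up t).comm_mem (mem_SF.1 hu t hst le_rfl) (mem_SF.1 hv t hst le_rfl)))
    ((h.down s).comm_mem (mem_SF.1 hu s le_rfl hst) (mem_SF.1 hv s le_rfl hst))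

theorem cent {y u : G} {s t : ℤ} (hst : s ≤ t) (hu : u ∈ SF a B s t)
    (hH : ∀ l, t - n + 1 ≤ l → l ≤ s → Commute (x l) y) : Commute u y :=
  mem_centralizer_singleton_iff.1 (h.gen' (H := centralizer {y}) hst
    (fun l h1 h2 => mem_centralizer_singleton_iff.2 (hH l h1 h2)) hu)

theorem card [Finite G] (k : ℕ) (hk : k ≤ n) (t : ℤ) :
    Nat.card (SF a B (t - n + k) t) = 2 ^ k := by
  induction k with
  | zero =>
    rw [pow_zero, card_eq_one]
    exact eq_bot_iff.2 fun u hu => h.bot' (by omega) hu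
  | succ k ih =>
    have e : t - n + (k + 1 : ℕ) - 1 = t - n + k := by omega
    have hx := h.mem (i := t - n + (k + 1 : ℕ)) (t := t) le_rfl (by omega)
    have h2 : (SF a B (t - n + k) t).relIndex (SF a B (t - n + (k + 1 : ℕ)) t) = 2 := by
      refine index_eq_two_iff'.2 ⟨⟨_, inv_mem hx⟩, fun u => ?_⟩
      rw [mem_subgroupOf, mem_subgroupOf, ← e]
      refine (xor_iff_or_and_not_and _ _).2 ⟨(h.dec_left (by omega) (by omega) u.2).symm,
        fun ⟨c1, c2⟩ => h.not_left (t - n + (k + 1 : ℕ))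
          ((mem_SF (t := t)).1 ?_ _ le_rfl (by omega))⟩
      simpa using mul_mem c2 (inv_mem c1)
    rw [pow_succ, ← ih (by omega), ← h2, card_mul_relIndex (SF_mono (by omega) le_rfl)]

section lam

variable {l : ℤ} (hl : ∀ j, 0 < j → j < l → Commute (x 0) (x j)) (hnc : ¬ Commute (x 0) (x l))
include hl

theorem near {i j : ℤ} (h1 : i - j < l) (h2 : j - i < l) : Commute (x i) (x j) := by
  rcases lt_trichotomy i j with c | c | c
  · simpa using (h.commute_sh i).2 (hl (j - i) (by omega) h2)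
  · exact c ▸ Commute.refl _
  · simpa using ((h.commute_sh j).2 (hl (i - j) (by omega) h1)).symm

theorem abel {s t : ℤ} (h1 : s ≤ t) (h2 : s - t + n ≤ l) {u v : G} (hu : u ∈ SF a B s t)
    (hv : v ∈ SF a B s t) : Commute u v :=
  h.cent h1 hu fun _ _ _ => (h.cent h1 hv fun _ _ _ => h.near hl (by omega) (by omega)).symm

theorem elem {s t : ℤ} (h1 : s ≤ t) (h2 : s - t + n ≤ l) {u : G} (hu : u ∈ SF a B s t) :
    u * u = 1 :=
  (h.gen' (H := ⟨⟨⟨{w | w ∈ SF a B s t ∧ w * w = 1}, fun {u v} hu hv => ⟨mul_mem hu.1 hv.1, by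
    rw [(h.abel hl h1 h2 hv.1 hu.1).mul_mul_mul_comm, hu.2, hv.2, one_mul]⟩⟩,
    ⟨one_mem _, one_mul _⟩⟩, fun {u} hu => ⟨inv_mem hu.1, by rw [← mul_inv_rev, hu.2, inv_one]⟩⟩) h1
    (fun j _ _ => ⟨h.mem (by omega) (by omega), h.sq j⟩) hu).2

theorem lam_le [Finite G] : 2 * l ≤ n + 2 := by
  by_contra c
  have := h.gen_top (H := centralizer {x 0}) (l - 3) fun j h1 h2 =>
    mem_centralizer_singleton_iff.2 (h.near hl (by omega) (by omega))
  refine h.ne0 (zpowers_eq_bot.1 (h.eq_bot 0 (zpowers_le.2 (mem_SF.1 h.mem0 0 le_rfl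
    (by have := h.pos; omega))) (eq_top_iff.2 (norm_of_cent ?_))))
  rw [← this, cent_comm, zpowers_le]
  exact fun y hy => (mem_centralizer_singleton_iff.1 hy)

include hnc

theorem mu_step {m : ℤ} (h1 : 1 ≤ m) (h1' : m < l) (h2 : m + l ≤ n - 1)
    (hc : ⁅x 0, x l⁆ ∈ SF a B (l - 1) (m + n - 1)) : ⁅x 0, x l⁆ ∈ SF a B (l - 1) (m + n - 1 + 1) := by
  refine (h.dec_right (by omega) (by omega) hc).resolve_right fun c => hnc ?_
  have e1 := h.cent (y := x (l + m)) (by omega) c fun j _ _ => h.near hl (by omega) (by omega)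
  have e2 := h.cent (y := x l) (by omega) (h.comm_mem (s := l + m) (t := n - 1) (by omega)
    (inv_mem (h.mem (i := 0) (by omega) (by omega))) (h.mem (i := l + m) le_rfl (by omega)))
    fun j _ _ => h.near hl (by omega) (by omega)
  have e3 : Commute (x (l + m)) (x l) := h.near hl (by omega) (by omega)
  have e4 : Commute ⁅x 0, x l⁆ (x (l + m)) := by
    generalize x (l + m) = y at *
    have : y * ⁅x 0, x l⁆ * y⁻¹ =
        x 0 * (⁅(x 0)⁻¹, y⁆ * (y * x l * y⁻¹) * ⁅(x 0)⁻¹, y⁆⁻¹) * (x 0)⁻¹ * (y * x l * y⁻¹)⁻¹ := by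
      simp only [commutatorElement_def]; group
    rw [e3.mul_inv_cancel, e2.mul_inv_cancel, ← commutatorElement_def] at this
    exact (mul_inv_eq_iff_eq_mul.1 this).symm
  have := (e4.mul_left e1.inv_left)
  rw [mul_inv_rev, inv_inv, mul_inv_cancel_left] at this
  rwa [← h.commute_sh m, zero_add]

theorem nu_step {m : ℤ} (h1 : 1 ≤ m) (h1' : m < l) (h2 : 2 * l - m ≤ n - 1)
    (hc : ⁅x 0, x l⁆ ∈ SF a B m n) : ⁅x 0, x l⁆ ∈ SF a B (m - 1) n := by
  refine (h.dec_left (by omega) (by omega) hc).resolve_right fun c => hnc ?_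
  have e1 := h.cent (y := x (m - l)) (by omega) c fun j _ _ => h.near hl (by omega) (by omega)
  have e2 := h.cent (y := x 0) (by omega) (h.comm_mem (s := l) (t := m - l + n - 1) (by omega)
    (inv_mem (h.mem (i := l) le_rfl (by omega))) (h.mem (i := m - l) (by omega) le_rfl))
    fun j _ _ => h.near hl (by omega) (by omega)
  have e3 : Commute (x (m - l)) (x 0) := h.near hl (by omega) (by omega)
  have e4 : Commute ⁅x 0, x l⁆ (x (m - l)) := by
    generalize x (m - l) = y at *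
    have : y * ⁅x 0, x l⁆ * y⁻¹ = (y * x 0 * y⁻¹) * x l *
        (⁅(x l)⁻¹, y⁆ * (y * x 0 * y⁻¹) * ⁅(x l)⁻¹, y⁆⁻¹)⁻¹ * (x l)⁻¹ := by
      simp only [commutatorElement_def]; group
    rw [e3.mul_inv_cancel, e2.mul_inv_cancel, ← commutatorElement_def] at this
    exact (mul_inv_eq_iff_eq_mul.1 this).symm
  have := (e4.mul_left e1.inv_left)
  rw [mul_inv_rev, inv_inv, mul_inv_cancel_left] at this
  rw [← h.commute_sh (m - l), zero_add, show l + (m - l) = m by ring]
  exact this.symm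

theorem comm_range (h0 : 0 < l) (hn : l ≤ n - 1) :
    ⁅x 0, x l⁆ ∈ SF a B (l - 1) n ∧ ⁅x 0, x l⁆ ∈ SF a B (l - 1) (2 * n - l - 1) ∧
      ⁅x 0, x l⁆ ∈ SF a B (2 * l - n) n := by
  have hne : ⁅x 0, x l⁆ ≠ 1 := fun e => hnc (commutatorElement_eq_one_iff_commute.1 e)
  have b : ⁅x 0, x l⁆ ∈ SF a B (l - 1) n := by
    simpa using h.comm_mem (s := l) (t := n - 1) hn (h.mem (i := 0) (by omega) (by omega))
      (h.mem (i := l) le_rfl (by omega))
  have k1 : ∀ k : ℕ, k + 1 + l ≤ n → ⁅x 0, x l⁆ ∈ SF a B (l - 1) (k + 1 + n - 1) := by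
    intro k
    induction k with
    | zero => intro _; simpa using b
    | succ k ih =>
      intro hk
      have := ih (by omega)
      by_cases c : (k : ℤ) + 1 < l
      · exact SF_mono le_rfl (by omega) (h.mu_step hl hnc (by omega) c (by omega) this)
      · exact (hne (h.bot' (by omega) this)).elim
  have k2 : ∀ k : ℕ, k + 1 + l ≤ n → ⁅x 0, x l⁆ ∈ SF a B (l - 1 - k) n := by
    intro k
    induction k with
    | zero => intro _; simpa using b
    | succ k ih =>
      intro hk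
      have := ih (by omega)
      by_cases c : 1 ≤ l - 1 - k
      · exact SF_mono (by omega) le_rfl (h.nu_step hl hnc c (by omega) (by omega) this)
      · exact (hne (h.bot' (by omega) this)).elim
  exact ⟨b, SF_mono le_rfl (by omega) (k1 (n - l - 1).toNat (by omega)),
    SF_mono (by omega) le_rfl (k2 (n - l - 1).toNat (by omega))⟩

theorem lam_ge (h0 : 0 < l) (hn : l ≤ n - 1) : 2 * n ≤ 3 * l := by
  obtain ⟨-, h2, h3⟩ := h.comm_range hl hnc h0 hn
  by_contra c
  exact hnc (commutatorElement_eq_one_iff_commute.1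
    (h.bot' (by omega) (mem_SF_union h3 h2 (by omega))))

end lam

theorem exists_lam [Finite G] : ∃ l : ℤ, 0 < l ∧ (∀ j, 0 < j → j < l → Commute (x 0) (x j)) ∧
    ¬ Commute (x 0) (x l) := by
  classical
  have ex : ∃ k : ℕ, ¬ Commute (x 0) (x (k + 1)) := by
    by_contra c
    push Not at c
    have := h.lam_le (l := n + 2) (fun j h1 _ => by
      have := c (j - 1).toNat
      rwa [show ((j - 1).toNat : ℤ) + 1 = j by omega] at this)
    omega
  refine ⟨Nat.find ex + 1, by omega, fun j h1 h2 => ?_, Nat.find_spec ex⟩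
  have := Nat.find_min ex (m := (j - 1).toNat) (by omega)
  rwa [show ((j - 1).toNat : ℤ) + 1 = j by omega, not_not] at this

theorem ne_six [Finite G] (hn : n = 6) : False := by
  subst hn
  obtain ⟨l, h0, hl, hnc⟩ := h.exists_lam
  have h1 := h.lam_le hl
  have h2 := h.lam_ge hl hnc h0 (by omega)
  obtain rfl : l = 4 := by omega
  obtain ⟨-, h3, h4⟩ := h.comm_range hl hnc h0 (by omega)
  have c2 : ⁅x 0, x 4⁆ = x 2 := (h.eq_or (i := 2) (mem_SF_union h4 h3 (by omega))).resolve_left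
    fun e => hnc (commutatorElement_eq_one_iff_commute.1 e)
  have c : ∀ k, ⁅x (0 + k), x (4 + k)⁆ = x (2 + k) := fun k => by rw [h.comm_sh, c2, h.sh]
  have nc : ∀ k, ¬ Commute (x (0 + k)) (x (4 + k)) := fun k e => hnc ((h.commute_sh k).1 e)
  have b : ⁅x 0, x 5⁆ ∈ SF a B 4 6 := h.comm_mem (s := 5) (t := 5) le_rfl
    (h.mem (i := 0) (by omega) (by omega)) (h.mem (i := 5) (by omega) (by omega))
  have inv : ∀ {u v w y : G}, u * u = 1 → y * y = 1 → v * v = 1 → Commute w u → Commute w v →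
      w * w = 1 → v⁻¹ * ⁅y, u⁆ = w → Commute u v := by
    intro u v w y hu hy hv h1 h2 hw e
    have e1 : y * u * y⁻¹ = v * w * u := by
      rw [← e, commutatorElement_def]; group
    have e2 : (v * w * u) * (v * w * u) = 1 := by
      rw [← e1, show y * u * y⁻¹ * (y * u * y⁻¹) = y * (u * u) * y⁻¹ by group, hu]; group
    have e3 : (v * w * u) * (v * w * u) = (v * u) * (v * u) := by
      calc _ = v * (w * u) * v * (w * u) := by group
        _ = v * u * (w * v) * (w * u) := by rw [h1.eq]; group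
        _ = v * u * v * (w * w) * u := by rw [h2.eq]; group
        _ = _ := by rw [hw]; group
    rw [e3] at e2
    have e4 := eq_inv_of_mul_eq_one_left e2
    rw [mul_inv_rev, inv_eq_of_mul_eq_one_right hu, inv_eq_of_mul_eq_one_right hv] at e4
    exact e4.symm
  have sq : ∀ k, ∀ w ∈ SF a B (3 + k) (6 + k), w * w = 1 := fun k w hw =>
    h.elem hl (by omega) (by omega) hw
  have t1 : ⁅x 0, x 5⁆ ∈ SF a B 3 6 := by
    have b' : ⁅x 5, x 0⁆ ∈ SF a B 4 6 := commutatorElement_inv (x 0) (x 5) ▸ inv_mem b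
    rw [← commutatorElement_inv]
    refine inv_mem ((h.dec_left (by omega) (by omega) b').resolve_right fun c => nc 0 ?_)
    exact inv (h.sq _) (h.sq _) (h.sq _) (h.cent (by omega) c fun j _ _ => h.near hl (by omega)
      (by omega)) (h.cent (by omega) c fun j _ _ => h.near hl (by omega) (by omega)) (sq 0 _ c) rfl
  have t2 : ⁅x 0, x 5⁆ ∈ SF a B 4 7 := by
    refine (h.dec_right (i := 1) (by omega) (by omega) b).resolve_right fun c => nc 1 ?_
    exact (inv (h.sq _) (h.sq _) (h.sq _) (h.cent (by omega) c fun j _ _ => h.near hl (by omega)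
      (by omega)) (h.cent (by omega) c fun j _ _ => h.near hl (by omega) (by omega)) (sq 1 _ c) rfl).symm
  have N1 : ∀ y, (∀ j, 1 ≤ j → j ≤ 4 → ⁅y, x j⁆ ∈ SF a B 4 6) →
      y ∈ normalizer (SF a B 4 6 : Set G) := fun y hy => by
    refine mem_normalizer_of_cj_le (cj_le_iff_le_cj_inv.2 (h.gen' (by omega) fun j h1 h2 => ?_))
    refine mem_cj.2 ?_
    simpa [commutatorElement_def] using
      mul_mem (hy j (by omega) h2) (h.mem (i := j) h2 (by omega))
  have hb := h.eq_bot 4 (K := SF a B 4 6) (SF_self (a := a) (B := B) 4 ▸ SF_mono le_rfl (by omega))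
    (h.gen_top 4 fun j h1 h2 => by
      by_cases e1 : j = -1
      · refine N1 _ fun i h3 h4 => ?_
        by_cases e2 : i = 3
        · have := c (-1) ▸ h.mem (i := 2 + -1) (s := 4) (t := 6) (by omega) (by omega)
          simpa [e1, e2] using this
        by_cases e3 : i = 4
        · have := conj_mem_cj (a ^ (-1 : ℤ)) t2
          rw [cj_SF, ← h.comm_sh] at this
          simpa [e1, e3] using SF_mono (s := 4) (t := 6) (by omega) (by omega) this
        · rw [commutatorElement_eq_one_iff_commute.2 (h.near hl (by omega) (by omega))]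
          exact one_mem _
      by_cases e1 : j = 6
      · refine N1 _ fun i h3 h4 => ?_
        rw [← commutatorElement_inv, inv_mem_iff]
        by_cases e2 : i = 2
        · have := c 2 ▸ h.mem (i := 2 + 2) (s := 4) (t := 6) (by omega) (by omega)
          simpa [e1, e2] using this
        by_cases e3 : i = 1
        · have := conj_mem_cj (a ^ (1 : ℤ)) t1
          rw [cj_SF, ← h.comm_sh] at this
          simpa [e1, e3] using SF_mono (s := 4) (t := 6) (by omega) (by omega) this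
        · rw [commutatorElement_eq_one_iff_commute.2 (h.near hl (by omega) (by omega))]
          exact one_mem _
      · exact ((h.norm_SF (s := 5) (t := 5) le_rfl).trans inf_le_left)
          (h.mem (by omega) (by omega)))
  exact h.ne1 1 (mem_bot.1 (hb ▸ h.mem (i := 1) (by omega) (by omega)))

theorem le_four [Finite G] : n ≤ 4 := by
  obtain ⟨l, h0, hl, hnc⟩ := h.exists_lam
  have h1 := h.lam_le hl
  have h3 : n ≠ 6 := h.ne_six
  by_cases c : l ≤ n - 1
  · have h2 := h.lam_ge hl hnc h0 c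
    omega
  · omega

section struct

variable [Finite G] (f : cj a M →* Equiv.Perm (Fin 3))
  (hf : ∀ u : cj a M, f u = 1 ↔ (u : G) ∈ SF a B 0 1) (hc : Nat.card (cj a M) = 2 ^ n * 3)

theorem le0 : SF a B 0 0 ≤ cj a M := by
  rw [SF_self, zpow_zero, cj_one, ← h.sup]; exact le_sup_left

theorem le1 : SF a B 1 1 ≤ cj a M := by
  rw [SF_self, zpow_one, ← h.sup]; exact le_sup_right

theorem memp : x (1 - n) ∈ cj a M := h.le0 (h.mem (by have := h.pos; omega) (by omega))

theorem memq : x 1 ∈ cj a M := h.le1 (h.mem le_rfl (by have := h.pos; omega))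

theorem leQ : SF a B 0 1 ≤ cj a M := (SF_mono le_rfl zero_le_one).trans h.le0

theorem pow_Q {u : G} (hu : u ∈ SF a B 0 1) (h3 : u ^ 3 = 1) : u = 1 := by
  have h1 := h.card (n - 1) (by omega) 1
  rw [show (1 : ℤ) - n + (n - 1 : ℕ) = 0 by have := h.pos; omega] at h1
  have h2 := orderOf_dvd_natCard (⟨u, hu⟩ : SF a B 0 1)
  rw [h1, ← orderOf_coe] at h2
  exact orderOf_eq_one_iff.1 (Nat.eq_one_of_dvd_coprimes (Nat.Coprime.pow_left _ (by norm_num)) h2
    (orderOf_dvd_of_pow_eq_one h3))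

include hf

theorem fp : f ⟨_, h.memp⟩ ≠ 1 ∧ f ⟨_, h.memp⟩ ^ 2 = 1 :=
  ⟨fun e => h.not_right (1 - n) (by simpa using mem_SF.1 ((hf _).1 e) 1 zero_le_one le_rfl),
    by rw [← map_pow, ← map_one f]; congr 1; exact Subtype.ext ((pow_two _).trans (h.sq _))⟩

theorem fq : f ⟨_, h.memq⟩ ≠ 1 ∧ f ⟨_, h.memq⟩ ^ 2 = 1 :=
  ⟨fun e => h.not_left 1 (by simpa using mem_SF.1 ((hf _).1 e) 0 le_rfl zero_le_one),
    by rw [← map_pow, ← map_one f]; congr 1; exact Subtype.ext ((pow_two _).trans (h.sq _))⟩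

theorem cube : (x (1 - n) * x 1) ^ 3 ∈ SF a B 0 1 := by
  refine (hf ((⟨_, h.memp⟩ * ⟨_, h.memq⟩) ^ 3)).1 ?_
  rw [map_pow, map_mul]
  exact (by decide : ∀ s t : Equiv.Perm (Fin 3), s ≠ 1 ∧ s ^ 2 = 1 → t ≠ 1 ∧ t ^ 2 = 1 →
    (s * t) ^ 3 = 1) _ _ (h.fp f hf) (h.fq f hf)

theorem f3 {u : cj a M} (hu : orderOf u = 3) : f u ≠ 1 ∧ f u ^ 3 = 1 := by
  have e : u ^ 3 = 1 := hu ▸ pow_orderOf_eq_one u
  refine ⟨fun c => ?_, by rw [← map_pow, e, map_one]⟩
  rw [show u = 1 from Subtype.ext (h.pow_Q ((hf u).1 c) (congrArg Subtype.val e)),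
    orderOf_one] at hu
  omega

theorem six (hab : ∀ u ∈ SF a B 0 1, ∀ v ∈ SF a B 0 1, Commute u v) {m : cj a M}
    (hm : orderOf m = 6) : (m : G) ^ 3 ≠ 1 ∧ (m : G) ^ 3 ∈ SF a B 0 1 ∧
      ⁅(x (1 - n))⁻¹, (m : G) ^ 3⁆ = ⁅x 1, (m : G) ^ 3⁆ := by
  have h2 := h.f3 f hf (u := m ^ 2) (by rw [orderOf_pow, hm]; rfl)
  have h3 : ((m ^ 3 : cj a M) : G) ∈ SF a B 0 1 := (hf _).1 (by
    rw [map_pow] at h2 ⊢
    exact (by decide : ∀ s : Equiv.Perm (Fin 3), s ^ 2 ≠ 1 → s ^ 3 = 1) _ h2.1)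
  refine ⟨fun e => ?_, h3, ?_⟩
  · have := orderOf_dvd_of_pow_eq_one (Subtype.ext e : m ^ 3 = 1)
    rw [hm] at this
    omega
  obtain ⟨k, hk⟩ := (by decide : ∀ s t r : Equiv.Perm (Fin 3), s ≠ 1 ∧ s ^ 2 = 1 →
    t ≠ 1 ∧ t ^ 2 = 1 → r ≠ 1 ∧ r ^ 3 = 1 → ∃ k : Fin 3, r ^ (k : ℕ) * (s * t) = 1) _ _ _
    (h.fp f hf) (h.fq f hf) h2
  rw [← map_mul, ← map_pow, ← map_mul] at hk
  have h4 := hab _ ((hf _).1 hk) _ h3
  have h5 : Commute (((m : G) ^ 2) ^ (k : ℕ)) ((m : G) ^ 3) :=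
    ((Commute.refl (m : G)).pow_pow 2 3).pow_left _
  have h6 : Commute (x (1 - n) * x 1) ((m : G) ^ 3) := by
    simpa using h5.inv_left.mul_left h4
  calc _ = (x (1 - n))⁻¹ * ((m : G) ^ 3 * (x (1 - n) * x 1)) * (x 1)⁻¹ * ((m : G) ^ 3)⁻¹ := by
        rw [commutatorElement_def]; group
    _ = _ := by rw [← h6.eq, commutatorElement_def]; group

include hc

theorem case_one (hn : n = 1) : Nonempty (cj a M ≃* Equiv.Perm (Fin 3)) := by
  subst hn
  have hi : Function.Injective f := (injective_iff_map_eq_one f).2 fun u hu =>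
    Subtype.ext (h.bot' (by omega) ((hf u).1 hu))
  exact ⟨MulEquiv.ofBijective f (hi.bijective_of_nat_card_le (by rw [hc, Nat.card_perm]; simp [Nat.factorial]))⟩

theorem case_two (hn : n = 2) : Nonempty (cj a M ≃* DihedralGroup 6) := by
  subst hn
  obtain ⟨l, h0, hl, hnc⟩ := h.exists_lam
  have h1 := h.lam_le hl
  obtain rfl : l = 2 := by
    by_contra c
    have := h.lam_ge hl hnc h0 (by omega)
    omega
  have hz : ∀ u ∈ cj a M, Commute u (x 0) := by
    have : cj a M ≤ centralizer {x 0} := by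
      rw [← h.sup]
      refine sup_le ?_ ?_
      · simpa [SF_self] using h.gen' (H := centralizer {x 0}) (s := 0) le_rfl fun j _ _ =>
          mem_centralizer_singleton_iff.2 (h.near hl (by omega) (by omega))
      · simpa [SF_self] using h.gen' (H := centralizer {x 0}) (s := 1) le_rfl fun j _ _ =>
          mem_centralizer_singleton_iff.2 (h.near hl (by omega) (by omega))
    exact fun u hu => mem_centralizer_singleton_iff.1 (this hu)
  have := Fact.mk Nat.prime_three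
  obtain ⟨u, hu⟩ := exists_prime_orderOf_dvd_card' (G := cj a M) 3 (by rw [hc]; simp)
  have hu' : orderOf (u : G) = 3 := by rw [orderOf_coe, hu]
  have u3 : (u : G) ^ 3 = 1 := hu' ▸ pow_orderOf_eq_one _
  set p := x (1 - (2 : ℕ))
  have e1 : p * u * p⁻¹ * u ∈ SF a B 0 1 := by
    refine (hf (⟨_, h.memp⟩ * u * (⟨_, h.memp⟩ : cj a M)⁻¹ * u)).1 ?_
    simp only [map_mul, map_inv]
    exact (by decide : ∀ s r : Equiv.Perm (Fin 3), s ≠ 1 ∧ s ^ 2 = 1 → r ≠ 1 ∧ r ^ 3 = 1 →
      s * r * s⁻¹ * r = 1) _ _ (h.fp f hf) (h.f3 f hf hu)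
  have e2 : p * u * p⁻¹ = (u : G)⁻¹ := by
    rcases h.eq_or (i := 0) e1 with c | c
    · exact eq_inv_of_mul_eq_one_left c
    · have c1 : (p * u * p⁻¹) ^ 3 = 1 := by rw [conj_pow, u3]; group
      rw [eq_mul_inv_of_mul_eq c, (hz _ (inv_mem u.2)).symm.mul_pow, inv_pow, u3, inv_one, mul_one,
        pow_succ, pow_two, h.sq, one_mul] at c1
      exact (h.ne0 c1).elim
  have o2 : orderOf (x 0) = 2 :=
    orderOf_eq_prime (by rw [pow_two, h.sq]) h.ne0
  have o6 : orderOf (u * x 0) = 6 := by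
    rw [(hz u u.2).orderOf_mul_eq_mul_orderOf_of_coprime (by rw [hu', o2]; norm_num), hu', o2]
  have e3 : p * (u * x 0) * p⁻¹ = (u * x 0)⁻¹ := by
    rw [mul_inv_rev, h.inv 0, ← (hz _ (inv_mem u.2)).eq, ← e2, ← mul_assoc, mul_assoc _ (x 0),
      ← (hz _ (inv_mem h.memp)).eq, ← mul_assoc]
  have e4 : p ∉ zpowers (u * x 0) := by
    rintro ⟨k, hk⟩
    have : Commute p (u * x 0) := hk ▸ (Commute.refl _).zpow_left k
    rw [this.mul_inv_cancel] at e3
    have := orderOf_dvd_of_pow_eq_one ((pow_two _).trans (mul_eq_one_iff_eq_inv.2 e3))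
    rw [o6] at this
    omega
  obtain ⟨e⟩ := H42.dihedral_recog (by norm_num) o6 (h.sq _) e3 e4
  refine ⟨(MulEquiv.subgroupCongr (eq_of_le_of_card_ge (sup_le (zpowers_le.2 (mul_mem u.2
    (h.le0 (h.mem le_rfl (by omega))))) (zpowers_le.2 h.memp)) ?_)).symm.trans e⟩
  rw [Nat.card_congr e.toEquiv, hc, DihedralGroup.nat_card]
  rfl

theorem case_three (hn : n = 3) : Nonempty (cj a M ≃* Equiv.Perm (Fin 4)) := by
  subst hn
  obtain ⟨l, h0, hl, hnc⟩ := h.exists_lam
  have h1 := h.lam_le hl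
  have h2 := h.lam_ge hl hnc h0 (by omega)
  obtain rfl : l = 2 := by omega
  refine S1012.result hc fun m hm => ?_
  obtain ⟨v1, v2, v3⟩ := h.six f hf (fun u hu v hv => h.abel hl (by omega) (by omega) hu hv) hm
  generalize (m : G) ^ 3 = v at *
  have c1 := h.comm_mem (s := 0) (t := 0) le_rfl
    (inv_mem (h.mem (i := 1 - (3 : ℕ)) (by omega) (by omega))) (SF_mono le_rfl zero_le_one v2)
  have c2 := h.comm_mem (s := 1) (t := 1) le_rfl (h.mem (i := 1) (by omega) (by omega))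
    (SF_mono zero_le_one le_rfl v2)
  have c3 := h.bot' (by omega) (mem_SF_union c1 (v3 ▸ c2) (by omega))
  have c4 := commutatorElement_eq_one_iff_commute.1 (v3 ▸ c3)
  have c5 := (commutatorElement_eq_one_iff_commute.1 c3).inv_left
  rw [inv_inv] at c5
  rcases h.dec_left (by omega) (by omega) v2 with c | c
  · rcases h.eq_or (i := -1) c with c | c
    · exact v1 c
    · exact hnc ((h.commute_sh (-1)).1 (c ▸ c4).symm)
  · have := (h.cent (y := x (1 - (3 : ℕ))) (by omega) c fun j _ _ =>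
      h.near hl (by omega) (by omega))
    have := c5.symm.mul_left this.inv_left
    rw [mul_inv_rev, inv_inv, mul_inv_cancel_left] at this
    exact hnc ((h.commute_sh (-2)).1 (by simpa using this.symm))

theorem case_four (hn : n = 4) :
    Nonempty (cj a M ≃* Equiv.Perm (Fin 4) × Multiplicative (ZMod 2)) := by
  subst hn
  obtain ⟨l, h0, hl, hnc⟩ := h.exists_lam
  have h1 := h.lam_le hl
  have h2 := h.lam_ge hl hnc h0 (by omega)
  obtain rfl : l = 3 := by omega
  have hab : ∀ u ∈ SF a B 0 1, ∀ v ∈ SF a B 0 1, Commute u v :=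
    fun u hu v hv => h.abel hl (by omega) (by omega) hu hv
  have nr : ∀ i j, i - j < 3 → j - i < 3 → Commute (x i) (x j) := fun i j => h.near hl
  have odd : ∀ v ∈ SF a B 0 1, x (-3) * x 1 * v * (x (-3) * x 1)⁻¹ = x (-1) * v → False := by
    intro v hv e
    have e1 := hab _ (h.cube f hf) v hv
    have e2 : Commute (x (-3) * x 1) (x (-1)) :=
      (nr _ _ (by omega) (by omega)).mul_left (nr _ _ (by omega) (by omega))
    change Commute ((x (-3) * x 1) ^ 3) v at e1
    generalize x (-3) * x 1 = r at *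
    have e3 : ∀ w, r * (x (-1) * w) * r⁻¹ = x (-1) * (r * w * r⁻¹) := fun w => by
      rw [← mul_assoc, e2.eq]; group
    have e4 : r ^ 3 * v * (r ^ 3)⁻¹ = r * (r * (r * v * r⁻¹) * r⁻¹) * r⁻¹ := by
      simp only [pow_succ, pow_zero, one_mul]; group
    rw [e1.mul_inv_cancel, e, e3, e, e3, e3, e, ← mul_assoc, h.sq, one_mul] at e4
    exact h.ne1 _ (mul_eq_right.1 e4.symm)
  have cc : ⁅x 0, x 3⁆ = x 1 * x 2 := by
    have b := (h.comm_range hl hnc h0 (by omega)).1
    have hne : ⁅x 0, x 3⁆ ≠ 1 := fun e => hnc (commutatorElement_eq_one_iff_commute.1 e)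
    rcases h.dec_right (i := 1) (by omega) (by omega) b with c | c <;>
      rcases h.eq_or (i := 2) c with c | c
    · exact (hne c).elim
    · refine (odd (x 0) (h.mem (by omega) (by omega)) ?_).elim
      have := h.comm_sh (i := 0) (j := 3) (-3)
      rw [c, ← h.sh, commutatorElement_def] at this
      rw [show x (-3) * x 1 * x 0 * (x (-3) * x 1)⁻¹ = x (-3) * (x 1 * x 0 * (x 1)⁻¹) * (x (-3))⁻¹ by
        group, (nr 1 0 (by omega) (by omega)).mul_inv_cancel]
      exact mul_inv_eq_iff_eq_mul.1 this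
    · refine (odd (x (-2)) (h.mem (by omega) (by omega)) ?_).elim
      have := h.comm_sh (i := 0) (j := 3) (-2)
      rw [inv_mul_eq_one.1 c |>.symm, ← h.sh, ← commutatorElement_inv, inv_eq_iff_eq_inv, h.inv,
        commutatorElement_def] at this
      have e : x 1 * x (-2) * (x 1)⁻¹ = x (-1) * x (-2) := mul_inv_eq_iff_eq_mul.1 this
      rw [show x (-3) * x 1 * x (-2) * (x (-3) * x 1)⁻¹ =
        x (-3) * (x 1 * x (-2) * (x 1)⁻¹) * (x (-3))⁻¹ by group, e,
        ((nr (-3) (-1) (by omega) (by omega)).mul_right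
          (nr (-3) (-2) (by omega) (by omega))).mul_inv_cancel]
    · exact inv_mul_eq_iff_eq_mul.1 c
  have c3 : ⁅x (-3), x 0⁆ = x (-2) * x (-1) := by
    have := h.comm_sh (i := 0) (j := 3) (-3)
    rw [cc] at this
    exact this.trans (by rw [show (-2 : ℤ) = 1 + -3 by rfl, show (-1 : ℤ) = 2 + -3 by rfl, h.sh, h.sh]; group)
  have c2 : ⁅x (-2), x 1⁆ = x (-1) * x 0 := by
    have := h.comm_sh (i := 0) (j := 3) (-2)
    rw [cc] at this
    exact this.trans (by rw [show (-1 : ℤ) = 1 + -2 by rfl, show x 0 = x (2 + -2) by rfl, h.sh, h.sh]; group)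
  have six : ∀ m : cj a M, orderOf m = 6 → (m : G) ^ 3 = x (-1) := by
    intro m hm
    obtain ⟨v1, v2, v3⟩ := h.six f hf hab hm
    generalize (m : G) ^ 3 = v at *
    have d1 := h.comm_mem (s := 0) (t := 0) le_rfl
      (inv_mem (h.mem (i := 1 - (4 : ℕ)) (by omega) (by omega))) (SF_mono le_rfl zero_le_one v2)
    have d2 := h.comm_mem (s := 1) (t := 1) le_rfl (h.mem (i := 1) (by omega) (by omega))
      (SF_mono zero_le_one le_rfl v2)
    have w1 : v ∈ SF a B (0 - 1) 1 := by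
      refine (h.dec_left (by omega) (by omega) v2).resolve_right fun c => ?_
      have q := h.cent (y := x (-3)) (by omega) c fun j _ _ => nr _ _ (by omega) (by omega)
      rw [← v3, h.inv] at d2
      change ⁅x (-3), v⁆ ∈ _ at d2
      have e : ⁅x (-3), v⁆ = ⁅x (-3), x 0⁆ := by
        calc _ = x (-3) * x 0 * ((x 0)⁻¹ * v * (x (-3))⁻¹ * ((x 0)⁻¹ * v)⁻¹) * (x 0)⁻¹ := by
              rw [commutatorElement_def]; group
          _ = _ := by rw [q.inv_right.mul_inv_cancel, commutatorElement_def]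
      rw [e, c3, mul_mem_cancel_right (h.mem (by omega) (by omega))] at d2
      exact h.not_right (-2) (mem_SF.1 d2 _ (by omega) (by omega))
    have w2 : v ∈ SF a B 0 (-2 + (4 : ℕ) - 1 + 1) := by
      refine (h.dec_right (by omega) (by omega) v2).resolve_right fun c => ?_
      have q := h.cent (y := x 1) (by omega) c fun j _ _ => nr _ _ (by omega) (by omega)
      rw [v3] at d1
      have e : ⁅x 1, v⁆ = ⁅x 1, x (-2)⁆ := by
        calc _ = x 1 * x (-2) * ((x (-2))⁻¹ * v * (x 1)⁻¹ * ((x (-2))⁻¹ * v)⁻¹) * (x (-2))⁻¹ := by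
              rw [commutatorElement_def]; group
          _ = _ := by rw [q.inv_right.mul_inv_cancel, commutatorElement_def]
      rw [e, ← commutatorElement_inv, inv_mem_iff, c2,
        mul_mem_cancel_left (h.mem (by omega) (by omega))] at d1
      exact h.not_left 0 (mem_SF.1 d1 _ (by omega) (by omega))
    exact (h.eq_or (i := -1) (mem_SF_union w1 w2 (by omega))).resolve_left v1
  have hz : cj a M ≤ centralizer {x (-1)} := by
    rw [← h.sup]
    refine sup_le ?_ ?_
    · simpa [SF_self] using h.gen' (H := centralizer {x (-1)}) (s := 0) le_rfl fun j _ _ =>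
        mem_centralizer_singleton_iff.2 (nr _ _ (by omega) (by omega))
    · simpa [SF_self] using h.gen' (H := centralizer {x (-1)}) (s := 1) le_rfl fun j _ _ =>
        mem_centralizer_singleton_iff.2 (nr _ _ (by omega) (by omega))
  have two : ∀ {W : Subgroup G} {y u : G}, y * y = 1 → y ∈ normalizer (W : Set G) →
      u ∈ W ⊔ zpowers y → u ∈ W ∨ u * y ∈ W := by
    intro W y u hy hn hu
    obtain ⟨w, hw, _, ⟨k, rfl⟩, rfl⟩ := (mem_sup_of_norm' (zpowers_le.2 hn)).1 hu
    have e : ∀ j : ℤ, y ^ (2 * j) = 1 := fun j => by rw [zpow_mul, zpow_two, hy, one_zpow]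
    rcases Int.even_or_odd' k with ⟨j, rfl | rfl⟩
    · exact Or.inl (by simpa [e] using hw)
    · exact Or.inr (by simpa [zpow_add_one, e, hy, mul_assoc] using hw)
  have nb : ∀ y : G, y ∈ normalizer ((⊥ : Subgroup G) : Set G) := fun y =>
    norm_of_normal (L := ⊤) (mem_top y)
  set c := x (-2) * x (-1) with hcd
  have cm : c ∈ SF a B (-1) 1 :=
    mul_mem (h.mem (by omega) (by omega)) (h.mem (by omega) (by omega))
  have A1 : x (-1) ∉ (⊥ ⊔ zpowers c ⊔ zpowers (x 0)) ⊔ zpowers (x (-3)) := by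
    intro hx
    have l1 : ⊥ ⊔ zpowers c ≤ SF a B (-1) 1 := sup_le bot_le (zpowers_le.2 cm)
    have l2 : ⊥ ⊔ zpowers c ⊔ zpowers (x 0) ≤ SF a B 0 1 :=
      sup_le (l1.trans (SF_mono (by omega) le_rfl)) (zpowers_le.2 (h.mem (by omega) (by omega)))
    have n1 : x (-3) ∈ normalizer ((⊥ ⊔ zpowers c ⊔ zpowers (x 0) : Subgroup G) : Set G) := by
      refine mem_normalizer_of_cj_le (cj_le_iff_le_cj_inv.2 ?_)
      refine sup_le (sup_le bot_le (zpowers_le.2 (mem_cj.2 ?_))) (zpowers_le.2 (mem_cj.2 ?_))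
      · rw [inv_inv, ((nr (-3) (-2) (by omega) (by omega)).mul_right
          (nr (-3) (-1) (by omega) (by omega))).mul_inv_cancel]
        exact mem_sup_left (mem_sup_right (mem_zpowers _))
      · rw [inv_inv, mul_inv_eq_iff_eq_mul.1 c3]
        exact mul_mem (mem_sup_left (mem_sup_right (mem_zpowers _))) (mem_sup_right (mem_zpowers _))
    have n2 : zpowers (x 0) ≤ centralizer ((⊥ ⊔ zpowers c : Subgroup G) : Set G) := by
      rw [bot_sup_eq, zpowers_le, mem_centralizer_iff]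
      rintro _ ⟨k, rfl⟩
      exact ((nr (-2) 0 (by omega) (by omega)).mul_left (nr (-1) 0 (by omega) (by omega))).zpow_left k
    rcases two (h.sq _) n1 hx with hx | hx
    · rcases two (h.sq _) (norm_of_cent n2 (mem_zpowers _)) hx with hx | hx
      · rcases two (h.elem hl (by omega) (by omega) cm) (nb _) hx with hx | hx
        · exact h.ne1 _ hx
        · rw [hcd, (nr (-2) (-1) (by omega) (by omega)).eq, ← mul_assoc, h.sq, one_mul] at hx
          exact h.ne1 _ hx
      · exact h.not_left 0 (mem_SF.1 ((mul_mem_cancel_left (h.mem (by omega) (by omega))).1 (l1 hx))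
          _ (by omega) (by omega))
    · exact h.not_right (-3) (mem_SF.1 ((mul_mem_cancel_left (h.mem (by omega) (by omega))).1
        (l2 hx)) _ (by omega) (by omega))
  set A := (⊥ ⊔ zpowers c ⊔ zpowers (x 0)) ⊔ zpowers (x (-3)) with hA
  have lA : A ≤ SF a B 0 0 := sup_le (sup_le (sup_le bot_le (zpowers_le.2
    (SF_mono (by omega) (by omega) cm))) (zpowers_le.2 (h.mem (by omega) (by omega))))
    (zpowers_le.2 (h.mem (by omega) (by omega)))
  have lz : zpowers (x (-1)) ≤ SF a B 0 0 := zpowers_le.2 (h.mem (by omega) (by omega))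
  have A2 : zpowers (x (-1)) ⊔ A = SF a B 0 0 := by
    refine le_antisymm (sup_le lz lA) (h.gen' le_rfl fun j j1 j2 => ?_)
    obtain rfl | rfl | rfl | rfl : j = -3 ∨ j = -2 ∨ j = -1 ∨ j = 0 := by omega
    · exact mem_sup_right (mem_sup_right (mem_zpowers _))
    · exact (mul_mem_cancel_right (mem_sup_left (mem_zpowers _))).1
        (mem_sup_right (mem_sup_left (mem_sup_left (mem_sup_right (mem_zpowers c)))))
    · exact mem_sup_left (mem_zpowers _)
    · exact mem_sup_right (mem_sup_left (mem_sup_right (mem_zpowers _)))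
  set K := (zpowers (x (-1))).subgroupOf (cj a M) with hK
  have Kc : K ≤ center _ := by
    rintro u ⟨k, hk⟩
    refine mem_center_iff.2 fun g => Subtype.ext ?_
    have : Commute (g : G) (x (-1)) := mem_centralizer_singleton_iff.1 (hz g.2)
    have e := this.zpow_right k
    rw [show x (-1) ^ k = (u : G) from hk] at e
    exact e
  have : K.Normal := ⟨fun u hu g => by rw [mem_center_iff.1 (Kc hu)]; simpa using hu⟩
  have : IsMulCommutative K := ⟨⟨fun u v => Subtype.ext (mem_center_iff.1 (Kc v.2) u)⟩⟩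
  have := Fact.mk Nat.prime_two
  have cK : Nat.card K = 2 := by
    rw [Nat.card_congr (subgroupOfEquivOfLe (lz.trans h.le0)).toEquiv, Nat.card_zpowers]
    exact orderOf_eq_prime (by rw [pow_two, h.sq]) (h.ne1 _)
  have i3 : (SF a B 0 0).relIndex (cj a M) = 3 := by
    have e1 := card_mul_relIndex h.le0
    rw [hc, show SF a B 0 0 = SF a B (0 - (4 : ℕ) + (4 : ℕ)) 0 by simp, h.card 4 le_rfl] at e1
    simp only [sub_add_cancel] at e1
    omega
  obtain ⟨H, hH⟩ := S0051.result K ((SF a B 0 0).subgroupOf _) (comap_mono lz)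
    (by rw [cK, show ((SF a B 0 0).subgroupOf (cj a M)).index = 3 from i3]; norm_num) (A.subgroupOf _) (comap_mono lA)
    (eq_bot_iff.2 fun u hu => by
      rcases two (W := ⊥) (h.sq (-1)) (nb _) (mem_sup_right hu.2) with e | e
      · exact Subtype.ext e
      · exact (A1 ((mul_eq_one_iff_eq_inv.1 e).trans (h.inv _) ▸ hu.1)).elim)
    (by rw [← A2, subgroupOf_sup (lz.trans h.le0) (lA.trans h.le0)])
  have iH : H.index = 2 := hH.index_eq_card.trans cK
  have := normal_of_index_eq_two iH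
  have cH : Nat.card H = 24 := by
    have := H.card_mul_index
    rw [iH, hc] at this
    omega
  obtain ⟨e1⟩ := S1012.result cH fun m hm => by
    have e := six m (by rw [orderOf_coe, hm])
    have := disjoint_def.1 hH.disjoint (x := (m : cj a M) ^ 3) ⟨1, (zpow_one _).trans e.symm⟩
      (H.pow_mem m.2 3)
    exact h.ne1 _ (e.symm.trans (congrArg Subtype.val this))
  let e2 : (cj a M ⧸ H) ≃* Multiplicative (ZMod 2) := mulEquivOfPrimeCardEq iH (by simp)
  let φ := ((hH.symm.QuotientMulEquiv.trans e1).toMonoidHom.comp (QuotientGroup.mk' K)).prod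
    (e2.toMonoidHom.comp (QuotientGroup.mk' H))
  have hi : Function.Injective φ := (injective_iff_map_eq_one φ).2 fun u hu => by
    obtain ⟨u1, u2⟩ := Prod.mk_eq_one.1 hu
    exact disjoint_def.1 hH.disjoint
      ((QuotientGroup.eq_one_iff u).1 ((MulEquiv.map_eq_one_iff (hH.symm.QuotientMulEquiv.trans e1)).1 u1))
      ((QuotientGroup.eq_one_iff u).1 ((MulEquiv.map_eq_one_iff e2).1 u2))
  exact ⟨MulEquiv.ofBijective φ (hi.bijective_of_nat_card_le (by
    rw [hc, Nat.card_prod, Nat.card_perm]; simp [Nat.factorial]))⟩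

end struct

end SimsX

theorem eq_or_of_relIndex_prime [Finite G] {B K N : Subgroup G} {p : ℕ} (hp : p.Prime)
    (h : B.relIndex N = p) (h1 : B ≤ K) (h2 : K ≤ N) : K = B ∨ K = N := by
  have e := relIndex_mul_relIndex B K N h1 h2
  rw [h] at e
  rcases (Nat.dvd_prime hp).1 (Dvd.intro_left _ e) with c | c
  · exact Or.inr (le_antisymm h2 (relIndex_eq_one.1 c))
  · rw [c] at e
    exact Or.inl (le_antisymm (relIndex_eq_one.1 (by simpa [hp.ne_zero] using e)) h1)

/-- **Sims' theorem** -/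
theorem sims [Finite G] {M N : Subgroup G} (hM : IsCoatom M) (hc : M.normalCore = ⊥) {g : G}
    (hg : N = cj g M) (hne : M ≠ N) (hd : N.relIndex M = 3) :
    (∃ k ≤ 4, Nat.card N = 2 ^ k * 3) ∧ (Nonempty (N ≃* Multiplicative (ZMod 3)) ∨
      Nonempty (N ≃* Equiv.Perm (Fin 3)) ∨ Nonempty (N ≃* DihedralGroup 6) ∨
      Nonempty (N ≃* Equiv.Perm (Fin 4)) ∨
      Nonempty (N ≃* Equiv.Perm (Fin 4) × Multiplicative (ZMod 2))) := by
  have := Fact.mk Nat.prime_two
  have := Fact.mk Nat.prime_three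
  have pM := primSub_of_coatom hM hc
  have pN : PrimSub N := hg ▸ pM.conj g
  have hd' : M.relIndex N = 3 := (relIndex_symm (by rw [hg, card_cj])).trans hd
  have idx : ∀ {M N : Subgroup G}, M.relIndex N = 3 → (core N M).relIndex (M ⊓ N) ∣ 2 := by
    intro M N hd
    have h3 := relIndex_normalCore_dvd (M.subgroupOf N)
    rw [← relIndex_map_map_of_injective _ _ N.subtype_injective, subgroupOf_map_subtype,
      show (M.subgroupOf N).index = 3 from hd] at h3
    exact h3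
  have res : ∀ {M N : Subgroup G}, M.relIndex N = 3 →
      pResidualOf 2 (core N M) = pResidualOf 2 (M ⊓ N) := by
    intro M N hd
    have l := le_inf (core_le_right N M) (core_le_left N M)
    refine pRes_eq_of_le l (pRes_le_of_pow fun y hy => ⟨1, ?_⟩)
    have := (normal_subgroupOf_iff_le_normalizer l).2 (inf_le_right.trans (le_norm_core N M))
    obtain ⟨c, e⟩ := idx hd
    rw [pow_one, e, pow_mul]
    exact pow_mem (((core N M).subgroupOf (M ⊓ N)).pow_index_mem ⟨y, hy⟩) c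
  have hB : IsPGroup 2 (M ⊓ N : Subgroup G) := pRes_eq_bot_iff.1 (pM.eq_bot pN hne
    ((pRes_le _).trans inf_le_left) ((pRes_le _).trans inf_le_right)
    (by rw [inf_comm, ← res hd]; exact norm_pRes (le_norm_core M N))
    (by rw [← res hd']; exact norm_pRes (le_norm_core N M)))
  set B := M ⊓ N with hBd
  have iM : B.relIndex M = 3 := by rw [hBd, inf_relIndex_left, hd]
  have iN : B.relIndex N = 3 := by rw [hBd, inf_relIndex_right, hd']
  have cN := card_mul_relIndex (A := B) (inf_le_right : B ≤ N)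
  rw [iN] at cN
  have triv : B = ⊥ → (∃ k ≤ 4, Nat.card N = 2 ^ k * 3) ∧
      Nonempty (N ≃* Multiplicative (ZMod 3)) := fun e => by
    rw [e, card_bot] at cN
    exact ⟨⟨0, by omega, cN.symm⟩, ⟨mulEquivOfPrimeCardEq cN.symm (by simp)⟩⟩
  by_cases n1 : M ≤ normalizer (B : Set G)
  · have := pM.pCore_inf_eq_bot (p := 2) hg hne.symm (by rwa [inf_comm, pCoreOf_eq_self hB])
    rw [inf_comm, pCoreOf_eq_self hB] at this
    exact (triv this).imp_right Or.inl
  by_cases n2 : N ≤ normalizer (B : Set G)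
  · have := pN.pCore_inf_eq_bot (p := 2) (g := g⁻¹) (by rw [hg, cj_inv_cj]) hne
      (by rwa [pCoreOf_eq_self hB])
    rw [pCoreOf_eq_self hB] at this
    exact (triv this).imp_right Or.inl
  have syl : H92.SylIn 2 B M := H92.sylIn_of_not_dvd_relIndex inf_le_left hB (by rw [iM]; norm_num)
  obtain ⟨m, hm, hmB⟩ := sylIn_exists_le_cj syl (R := cj g⁻¹ B)
    (le_cj_iff.1 (hg ▸ inf_le_right)) (isPGroup_cj _ hB)
  have g1 : cj (g * m) B = B := by
    rw [cj_mul]
    exact (eq_of_le_of_card_ge (le_cj_iff.2 hmB) (by rw [card_cj, card_cj])).symm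
  obtain ⟨m', hm', hm'B⟩ := SetLike.not_le_iff_exists.1 n1
  set a := g * m * m' with ha
  have aM : cj a M = N := by
    rw [ha, cj_mul, cj_mul, cj_eq_self_of_mem hm', cj_eq_self_of_mem hm, hg]
  have aB : cj a B ≠ B := fun e => hm'B (cj_eq_self_iff.1 (by
    rwa [ha, cj_mul, ← cj_inj (g * m)⁻¹, cj_inv_cj, ← g1, cj_inv_cj, g1] at e))
  have aB' : cj a B = cj (g * m * m' * (g * m)⁻¹) B := by
    rw [cj_mul (g * m * m'), ← g1, cj_inv_cj, g1]
  have aN : g * m * m' * (g * m)⁻¹ ∈ N := by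
    rw [hg, ← cj_eq_self_of_mem hm, ← cj_mul]
    exact conj_mem_cj _ hm'
  have lB : cj a B ≤ N := aM ▸ cj_mono a inf_le_left
  have cB : core N M ≤ cj a B := by
    rw [aB', ← cj_eq_self (le_norm_core N M aN)]
    exact cj_mono _ (le_inf (core_le_right N M) (core_le_left N M))
  have i2 : (core N M).relIndex B = 2 := by
    refine ((Nat.dvd_prime Nat.prime_two).1 (idx hd')).resolve_left fun e => n2 ?_
    rw [hBd, le_antisymm (relIndex_eq_one.1 e) (le_inf (core_le_right N M) (core_le_left N M))]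
    exact le_norm_core N M
  have nle : ¬ B ≤ cj a B := fun e => aB (eq_of_le_of_card_ge e (card_cj a B).le).symm
  have eQ : B ⊓ cj a B = core N M := (eq_or_of_relIndex_prime Nat.prime_two i2
    (le_inf (le_inf (core_le_right N M) (core_le_left N M)) cB) inf_le_left).resolve_right
    fun e => nle (inf_eq_left.1 e)
  have j1 : (cj a B).relIndex B = 2 := by rw [← inf_relIndex_left, eQ, i2]
  have hS : Sims a B M := ⟨idx2_of_relIndex j1,
    idx2_of_relIndex ((relIndex_symm (card_cj a B).symm).trans j1), aB,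
    aM ▸ (eq_or_of_relIndex_prime Nat.prime_three iN le_sup_left
      (sup_le inf_le_right lB)).resolve_left fun e => aB
        (eq_of_le_of_card_ge (sup_eq_left.1 e) (card_cj a B).ge),
    inf_le_left, hM, pM, aM ▸ hne.symm⟩
  obtain ⟨n, x, h⟩ := hS.exists_x
  have cardB := h.card n le_rfl 0
  rw [sub_add_cancel, SF_self, zpow_zero, cj_one] at cardB
  rw [cardB] at cN
  subst aM
  let e : (cj a M ⧸ M.subgroupOf (cj a M)) ≃ Fin 3 := Finite.equivFinOfCardEq hd'
  let f := e.permCongrHom.toMonoidHom.comp (MulAction.toPermHom (cj a M) _)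
  have hf : ∀ u : cj a M, f u = 1 ↔ (u : G) ∈ SF a B 0 1 := by
    intro u
    have e1 : SF a B 0 1 = core (cj a M) M := by
      rw [← eQ]
      refine le_antisymm (fun v hv => ⟨by simpa using mem_SF.1 hv 0 le_rfl zero_le_one,
        by simpa using mem_SF.1 hv 1 zero_le_one le_rfl⟩) fun v hv => mem_SF_right (t := 0) ?_ ?_
      · simpa [SF_self] using hv.1
      · simpa using hv.2
    rw [e1, core, normalCore_eq_ker]
    exact (MulEquiv.map_eq_one_iff e.permCongrHom).trans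
      (MonoidHom.mem_ker.symm.trans (mem_map_iff_mem (subtype_injective _) (x := u)).symm)
  have h4 := h.le_four
  have h1 := h.pos
  refine ⟨⟨n, h4, cN.symm⟩, Or.inr ?_⟩
  obtain c | c | c | c : n = 1 ∨ n = 2 ∨ n = 3 ∨ n = 4 := by omega
  · exact Or.inl (h.case_one f hf cN.symm c)
  · exact Or.inr (Or.inl (h.case_two f hf cN.symm c))
  · exact Or.inr (Or.inr (Or.inl (h.case_three f hf cN.symm c)))
  · exact Or.inr (Or.inr (Or.inr (h.case_four f hf cN.symm c)))

end Cfsg.Agent.H78
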